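import Cfsg.Agent.Lib.Rep.CurtisRichen.Count

/-!
# A regular element is conjugate to its `q`-th power

If the torus has exponent dividing `q - 1`, every simple module is isomorphic to its twist by the
Frobenius map of `q` elements, so the traces of the simple modules are fixed by that map.
-/

set_option autoImplicit false

open MonoidAlgebra

namespace CfsgLib.Rep.CurtisRichen

open Polynomial in
/-- the trace of a `p`-power of a matrix in characteristic `p` -/
theorem trace_pow_char_pow {R : Type*} [Field R] (p m : ℕ) [Fact p.Prime] [CharP R p] {n : Type*}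
    [DecidableEq n] [Fintype n] (M : Matrix n n R) :
    Matrix.trace (M ^ p ^ m) = Matrix.trace M ^ p ^ m := by
  rcases isEmpty_or_nonempty n with h | h
  · simp [Matrix.trace, zero_pow (pow_ne_zero m (Fact.out : p.Prime).ne_zero)]
  have hq : 0 < p ^ m := pow_pos (Fact.out : p.Prime).pos m
  have h1 : M.charpoly ^ p ^ m = expand R (p ^ m) (M ^ p ^ m).charpoly := by
    unfold Matrix.charpoly
    rw [AlgHom.map_det, ← Matrix.coe_detMonoidHom,
      ← (Matrix.detMonoidHom : Matrix n n R[X] →* R[X]).map_pow]
    apply congr_arg Matrix.detMonoidHom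
    refine matPolyEquiv.injective ?_
    rw [map_pow, Matrix.matPolyEquiv_charmatrix, sub_pow_char_pow_of_commute, ← C_pow]
    · exact (id (matPolyEquiv_eq_X_pow_sub_C (p ^ m) M) :).symm
    · exact (C M).commute_X
  have h2 : (M ^ p ^ m).charpoly = M.charpoly.map (iterateFrobenius R p m) := by
    refine expand_injective hq ?_
    rw [← h1, ← map_expand, map_iterateFrobenius_expand]
  rw [Matrix.trace_eq_neg_charpoly_coeff, Matrix.trace_eq_neg_charpoly_coeff, h2,
    Polynomial.coeff_map, ← iterateFrobenius_def, map_neg]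

section separation

variable {k G : Type*} [Field k] [Group G] [Finite G] [IsAlgClosed k] {ι : Type*} [Fintype ι]
  (L : ι → Submodule (MonoidAlgebra k G) (MonoidAlgebra k G)) (hL : ∀ i, IsCoatom (L i))
  (hne : ∀ i j, Nonempty ((MonoidAlgebra k G ⧸ L i) ≃ₗ[MonoidAlgebra k G] (MonoidAlgebra k G ⧸ L j)) → i = j)

include hL hne

/-- regular elements with the same traces in the simple modules are conjugate -/
theorem isConj_of_traces {p : ℕ} [Fact p.Prime] [CharP k p]
    (hex : ∀ L' : Submodule (MonoidAlgebra k G) (MonoidAlgebra k G), IsCoatom L' →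
      ∃ i, Nonempty ((MonoidAlgebra k G ⧸ L i) ≃ₗ[MonoidAlgebra k G] (MonoidAlgebra k G ⧸ L')))
    {x y : G} (hx : (orderOf x).Coprime p) (hy : (orderOf y).Coprime p)
    (htr : ∀ i, LinearMap.trace k _ (RegClassCount.act L i (single x 1)) =
      LinearMap.trace k _ (RegClassCount.act L i (single y 1))) : IsConj x y := by
  classical
  haveI : Fintype G := Fintype.ofFinite G
  obtain ⟨N, hN⟩ := RegClassCount.exists_trace_combination L hL hne (p := p) hex
  set m := orderOf x * orderOf y with hm
  have hmp : p.Coprime m := (Nat.Coprime.mul_left hx hy).symm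
  obtain ⟨n, hnN, hn⟩ : ∃ n ≥ N, ∀ z : G, orderOf z ∣ m → z ^ p ^ n = z := by
    refine ⟨N * Nat.totient m, Nat.le_mul_of_pos_right _ (Nat.totient_pos.2
      (Nat.mul_pos (orderOf_pos x) (orderOf_pos y))), fun z hz => ?_⟩
    have h1 : p ^ (N * Nat.totient m) ≡ 1 [MOD m] := by
      rw [mul_comm, pow_mul]
      simpa using (Nat.ModEq.pow_totient hmp).pow N
    conv_rhs => rw [← pow_one z]
    exact pow_eq_pow_iff_modEq.2 (h1.of_dvd hz)
  let S : Finset G := Finset.univ.filter fun g => IsConj x g
  have hS : ∀ a b : G, a * b ∈ S → b * a ∈ S := by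
    intro a b h
    simp only [S, Finset.mem_filter, Finset.mem_univ, true_and] at h ⊢
    refine h.trans (isConj_iff.2 ⟨b, ?_⟩)
    group
  let T : Finset G := Finset.univ.filter fun g => g ^ p ^ n ∈ S
  obtain ⟨c, hc⟩ := hN n hnN S hS T (fun g => by simp [T])
  have hz : ∀ z : G, ∑ g ∈ T, (single z (1 : k)).coeff g = if z ∈ T then 1 else 0 := fun z => by
    simp [MonoidAlgebra.coeff_single, Finsupp.single_apply, Finset.sum_ite_eq]
  have h1 := (hz x).symm.trans (hc (single x 1))
  have h2 := (hz y).symm.trans (hc (single y 1))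
  rw [Finset.sum_congr rfl fun i _ => by rw [htr i], ← h2] at h1
  have hxT : x ∈ T := by
    simp only [T, S, Finset.mem_filter, Finset.mem_univ, true_and]
    rw [hn x (dvd_mul_right _ _)]
  rw [if_pos hxT] at h1
  have hyT : y ∈ T := by
    by_contra h
    rw [if_neg h] at h1
    exact one_ne_zero h1
  simp only [T, S, Finset.mem_filter, Finset.mem_univ, true_and] at hyT
  rwa [hn y (dvd_mul_left _ _)] at hyT

end separation

namespace RankOne

variable {p : ℕ} {G : Type*} [Group G] {K : Type*} [Field K] {ι : Type*} (R : RankOne p G K ι)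
variable [Finite G] [Fintype K] [DecidableEq K] [CharP K p] [Fact p.Prime]
variable {k : Type*} [Field k] [CharP k p] [IsAlgClosed k]

omit [CharP K p] [Fact p.Prime] [CharP k p] [IsAlgClosed k] in
theorem op_map (σ : k →+* k) (g : G) (a : MonoidAlgebra k G) :
    mapRingHom G σ (single g (1 : k) * a) = single g (1 : k) * mapRingHom G σ a := by
  rw [map_mul, mapRingHom_single, map_one]

/-- the traces in the simple modules are fixed by the Frobenius map -/
theorem trace_pow_card (C : CellSys R) [Fintype ι] (hexp : ∀ t ∈ R.T, t ^ (Fintype.card K - 1) = 1)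
    (L : Submodule (MonoidAlgebra k G) (MonoidAlgebra k G)) (hL : IsCoatom L) (g : G) :
    LinearMap.trace k _ (Algebra.lsmul k k (MonoidAlgebra k G ⧸ L) (single g (1 : k))) ^ Fintype.card K =
      LinearMap.trace k _ (Algebra.lsmul k k (MonoidAlgebra k G ⧸ L) (single g (1 : k))) := by
  classical
  obtain ⟨m, -, hm⟩ := FiniteField.card K p
  let σe : k ≃+* k := iterateFrobeniusEquiv k p m
  let σ : k →+* k := σe.toRingHom
  have hσ : ∀ c : k, σ c = c ^ Fintype.card K := fun c => by rw [hm]; rfl
  let σi : k →+* k := σe.symm.toRingHom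
  let P : MonoidAlgebra k G →+* MonoidAlgebra k G := mapRingHom G σ
  let Pi' : MonoidAlgebra k G →+* MonoidAlgebra k G := mapRingHom G σi
  have hPP : ∀ a, P (Pi' a) = a := fun a => by
    ext x; simp [P, Pi', coeff_mapRingHom, σ, σi]
  have hPP' : ∀ a, Pi' (P a) = a := fun a => by
    ext x; simp [P, Pi', coeff_mapRingHom, σ, σi]
  let L' : Submodule (MonoidAlgebra k G) (MonoidAlgebra k G) :=
    { carrier := {a | Pi' a ∈ L}
      add_mem' := fun {a b} ha hb => by show Pi' (a + b) ∈ L; rw [map_add]; exact add_mem ha hb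
      zero_mem' := by show Pi' 0 ∈ L; rw [map_zero]; exact zero_mem _
      smul_mem' := fun c a ha => by
        show Pi' (c * a) ∈ L; rw [map_mul]; exact L.smul_mem _ ha }
  have hL' : IsCoatom L' := by
    refine ⟨fun h => hL.1 (Submodule.eq_top_iff'.2 fun a => ?_), fun M hM => ?_⟩
    · have h1 : P a ∈ L' := h ▸ Submodule.mem_top
      have h2 : Pi' (P a) ∈ L := h1
      rwa [hPP'] at h2
    · let M' : Submodule (MonoidAlgebra k G) (MonoidAlgebra k G) :=
        { carrier := {a | P a ∈ M}
          add_mem' := fun {a b} ha hb => by show P (a + b) ∈ M; rw [map_add]; exact add_mem ha hb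
          zero_mem' := by show P 0 ∈ M; rw [map_zero]; exact zero_mem _
          smul_mem' := fun c a ha => by
            show P (c * a) ∈ M; rw [map_mul]; exact M.smul_mem _ ha }
      have hlt : L < M' := by
        refine lt_of_le_of_ne (fun a ha => hM.le (show Pi' (P a) ∈ L by rwa [hPP'])) fun h => ?_
        obtain ⟨b, hb, hbn⟩ := SetLike.exists_of_lt hM
        have h1 : Pi' b ∈ M' := show P (Pi' b) ∈ M by rwa [hPP]
        rw [← h] at h1
        exact hbn h1
      refine Submodule.eq_top_iff'.2 fun a => ?_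
      have h1 : Pi' a ∈ M' := (hL.2 M' hlt).symm ▸ Submodule.mem_top
      have h2 : P (Pi' a) ∈ M := h1
      rwa [hPP] at h2
  haveI : IsSimpleModule (MonoidAlgebra k G) (MonoidAlgebra k G ⧸ L) := isSimpleModule_iff_isCoatom.2 hL
  haveI : IsSimpleModule (MonoidAlgebra k G) (MonoidAlgebra k G ⧸ L') := isSimpleModule_iff_isCoatom.2 hL'
  haveI : Module.Finite k (MonoidAlgebra k G ⧸ L) :=
    Module.Finite.of_surjective (L.mkQ.restrictScalars k) (Submodule.mkQ_surjective _)
  haveI : Nontrivial (MonoidAlgebra k G ⧸ L) := IsSimpleModule.nontrivial (MonoidAlgebra k G) _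
  -- the semilinear map
  let φ : (MonoidAlgebra k G ⧸ L) ≃+ (MonoidAlgebra k G ⧸ L') :=
    { toFun := Quotient.lift (fun a => (Submodule.Quotient.mk (P a) : MonoidAlgebra k G ⧸ L'))
        fun a b h => (Submodule.Quotient.eq L').2 (show Pi' (P a - P b) ∈ L by
          rw [map_sub, hPP', hPP']; exact (Submodule.quotientRel_def L).1 h)
      invFun := Quotient.lift (fun a => (Submodule.Quotient.mk (Pi' a) : MonoidAlgebra k G ⧸ L))
        fun a b h => (Submodule.Quotient.eq L).2 (show Pi' a - Pi' b ∈ L by
          rw [← map_sub]; exact (Submodule.quotientRel_def L').1 h)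
      left_inv := fun x => Submodule.Quotient.induction_on _ x fun a =>
        show Submodule.Quotient.mk (Pi' (P a)) = Submodule.Quotient.mk a by rw [hPP']
      right_inv := fun x => Submodule.Quotient.induction_on _ x fun a =>
        show Submodule.Quotient.mk (P (Pi' a)) = Submodule.Quotient.mk a by rw [hPP]
      map_add' := fun x y => Submodule.Quotient.induction_on _ x fun a =>
        Submodule.Quotient.induction_on _ y fun b =>
          show (Submodule.Quotient.mk (P (a + b)) : MonoidAlgebra k G ⧸ L') = _ by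
            rw [map_add, Submodule.Quotient.mk_add]; rfl }
  have hφop : ∀ (x : G) (v : MonoidAlgebra k G ⧸ L), φ (op (k := k) x v) = op (k := k) x (φ v) :=
    fun x v => Submodule.Quotient.induction_on _ v fun a => by
      show (Submodule.Quotient.mk (P (single x (1 : k) * a)) : MonoidAlgebra k G ⧸ L') = _
      rw [op_map]; rfl
  have hφs : ∀ (c : k) (v : MonoidAlgebra k G ⧸ L), φ (c • v) = σ c • φ v :=
    fun c v => Submodule.Quotient.induction_on _ v fun a => by
      show (Submodule.Quotient.mk (P (c • a)) : MonoidAlgebra k G ⧸ L') = _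
      have e : P (c • a) = σ c • P a := by
        ext x; simp [P, coeff_mapRingHom, MonoidAlgebra.coeff_smul]
      rw [e]; rfl
  -- the parameters are fixed
  obtain ⟨π, v, hv0, hv⟩ := R.exists_param (k := k) C (M := MonoidAlgebra k G ⧸ L)
  have hχ : ∀ t, σ (π.1.1 t) = π.1.1 t := fun t => by
    have h1 : π.1.1 t ^ (Fintype.card K - 1) = 1 := by
      rw [← map_pow, show t ^ (Fintype.card K - 1) = 1 from
        Subtype.ext (by rw [Subgroup.coe_pow]; exact hexp _ t.2), map_one]
    rw [hσ]
    conv_lhs => rw [← Nat.sub_add_cancel (Fintype.card_pos : 0 < Fintype.card K)]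
    rw [pow_succ, h1, one_mul]
  have hev : ∀ i, σ (evals π.1.2 i) = evals π.1.2 i := fun i => by
    unfold evals
    split_ifs <;> simp
  have hv' : R.IsEig π.1.1 (evals π.1.2) (φ v) := by
    refine ⟨⟨fun u hu => ?_, fun t => ?_⟩, fun i => ?_⟩
    · rw [← hφop, hv.1.1 u hu]
    · rw [← hφop, hv.1.2, hφs, hχ]
    · have h := hv.2 i
      rw [Top_apply] at h ⊢
      simp only [← hφop, ← map_sum, h, hφs, hev]
  obtain ⟨e⟩ := R.nonempty_equiv (k := k) hv' (fun h => hv0 (φ.injective (h.trans φ.map_zero.symm))) hv hv0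
  -- the matrix of the twist
  let b := Module.finBasis k (MonoidAlgebra k G ⧸ L)
  let f : (MonoidAlgebra k G ⧸ L') ≃ₗ[k] (Fin (Module.finrank k (MonoidAlgebra k G ⧸ L)) → k) :=
    { toFun := fun x j => σ (b.repr (φ.symm x) j)
      invFun := fun y => φ (b.equivFun.symm fun j => σe.symm (y j))
      left_inv := fun x => by
        show φ (b.equivFun.symm fun j => σe.symm (σe (b.repr (φ.symm x) j))) = x
        simp only [RingEquiv.symm_apply_apply]
        rw [show (fun j => b.repr (φ.symm x) j) = b.equivFun (φ.symm x) from rfl,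
          LinearEquiv.symm_apply_apply, AddEquiv.apply_symm_apply]
      right_inv := fun y => funext fun j => by
        show σe (b.repr (φ.symm (φ (b.equivFun.symm fun j => σe.symm (y j)))) j) = y j
        rw [AddEquiv.symm_apply_apply, show b.repr (b.equivFun.symm fun j => σe.symm (y j)) j =
          b.equivFun (b.equivFun.symm fun j => σe.symm (y j)) j from rfl,
          LinearEquiv.apply_symm_apply, RingEquiv.apply_symm_apply]
      map_add' := fun x y => funext fun j => by
        simp only [map_add, Finsupp.add_apply, Pi.add_apply]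
      map_smul' := fun c x => funext fun j => by
        have e1 : φ.symm (c • x) = σe.symm c • φ.symm x := by
          apply φ.injective
          rw [hφs, AddEquiv.apply_symm_apply, AddEquiv.apply_symm_apply]
          show c • x = σe (σe.symm c) • x
          rw [RingEquiv.apply_symm_apply]
        simp only [RingHom.id_apply, Pi.smul_apply, smul_eq_mul, e1, map_smul, Finsupp.smul_apply, map_mul]
        rw [show σ (σe.symm c) = c from σe.apply_symm_apply c] }
  let b' := Module.Basis.ofEquivFun f
  have hmat : LinearMap.toMatrix b' b' (Algebra.lsmul k k (MonoidAlgebra k G ⧸ L') (single g (1 : k))) =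
      (LinearMap.toMatrix b b (Algebra.lsmul k k (MonoidAlgebra k G ⧸ L) (single g (1 : k)))).map σ := by
    ext i j
    rw [Matrix.map_apply, LinearMap.toMatrix_apply, LinearMap.toMatrix_apply]
    have hb' : b' j = φ (b j) := by
      apply f.injective
      rw [Module.Basis.coe_ofEquivFun, LinearEquiv.apply_symm_apply]
      funext l
      show Pi.single (M := fun _ => k) j 1 l = σ (b.repr (φ.symm (φ (b j))) l)
      rw [AddEquiv.symm_apply_apply, b.repr_self, Finsupp.single_apply, Pi.single_apply]
      by_cases h : j = l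
      · subst h; simp
      · rw [if_neg h, if_neg (Ne.symm h), map_zero]
    show f (single g (1 : k) • b' j) i = σ (b.repr (single g (1 : k) • b j) i)
    rw [hb', show single g (1 : k) • φ (b j) = φ (op (k := k) g (b j)) from (hφop g (b j)).symm]
    show σ (b.repr (φ.symm (φ (op (k := k) g (b j)))) i) = _
    rw [AddEquiv.symm_apply_apply]
    rfl
  haveI : Module.Finite k (MonoidAlgebra k G ⧸ L') := Module.Finite.of_basis b'
  have ht : LinearMap.trace k _ (Algebra.lsmul k k (MonoidAlgebra k G ⧸ L') (single g (1 : k))) =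
      σ (LinearMap.trace k _ (Algebra.lsmul k k (MonoidAlgebra k G ⧸ L) (single g (1 : k)))) := by
    rw [LinearMap.trace_eq_matrix_trace k b', LinearMap.trace_eq_matrix_trace k b, hmat,
      show σ (Matrix.trace _) = _ from AddMonoidHom.map_trace σ.toAddMonoidHom _]
    rfl
  have he : (e.restrictScalars k).conj
      (Algebra.lsmul k k (MonoidAlgebra k G ⧸ L') (single g (1 : k))) =
      Algebra.lsmul k k (MonoidAlgebra k G ⧸ L) (single g (1 : k)) := by
    refine LinearMap.ext fun x => ?_
    show e (single g (1 : k) • e.symm x) = single g (1 : k) • x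
    rw [map_smul, LinearEquiv.apply_symm_apply]
  have h := LinearMap.trace_conj' (Algebra.lsmul k k (MonoidAlgebra k G ⧸ L') (single g (1 : k)))
    (e.restrictScalars k)
  rw [he, ht] at h
  rw [← hσ]
  exact h.symm

include k in
/-- **Rationality**: a regular element is conjugate to its `q`-th power -/
theorem isConj_pow_card (C : CellSys R) [Fintype ι] [Finite (↥R.T →* k)]
    (hexp : ∀ t ∈ R.T, t ^ (Fintype.card K - 1) = 1) {x : G} (hx : (orderOf x).Coprime p) :
    IsConj x (x ^ Fintype.card K) := by
  classical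
  let Q := {π : R.Param k // ∃ L : Submodule (MonoidAlgebra k G) (MonoidAlgebra k G), IsCoatom L ∧
    ∃ w : MonoidAlgebra k G ⧸ L, w ≠ 0 ∧ R.IsEig π.1.1 (evals π.1.2) w}
  haveI : Finite (R.Param k) :=
    inferInstanceAs (Finite {π : (↥R.T →* k) × Finset ι // ∀ i ∈ π.2, R.Triv π.1 i})
  haveI : Fintype Q := Fintype.ofFinite Q
  choose L hL w hw0 hw using fun π : Q => π.2
  haveI hsim : ∀ π, IsSimpleModule (MonoidAlgebra k G) (MonoidAlgebra k G ⧸ L π) := fun π =>
    isSimpleModule_iff_isCoatom.2 (hL π)
  have hne : ∀ a b, Nonempty ((MonoidAlgebra k G ⧸ L a) ≃ₗ[MonoidAlgebra k G]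
      (MonoidAlgebra k G ⧸ L b)) → a = b := by
    rintro π π' ⟨e⟩
    have hop : ∀ (g : G) (x : MonoidAlgebra k G ⧸ L π),
        op (k := k) g (e x) = e (op (k := k) g x) := fun g x => (map_smul e _ x).symm
    have hk : ∀ (a : k) (x : MonoidAlgebra k G ⧸ L π), e (a • x) = a • e x := fun a x => by
      rw [← algebraMap_smul (MonoidAlgebra k G) a x, map_smul, algebraMap_smul]
    have he : R.IsEig π.1.1.1 (evals π.1.1.2) (e (w π)) := by
      refine ⟨⟨fun u hu => by rw [hop, (hw π).1.1 u hu], fun t => by rw [hop, (hw π).1.2, hk]⟩,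
        fun i => ?_⟩
      have h := (hw π).2 i
      rw [Top_apply] at h ⊢
      simp only [hop, ← map_sum, h, hk]
    have h0 : e (w π) ≠ 0 := fun h => hw0 π (e.map_eq_zero_iff.1 h)
    obtain ⟨h1, h2⟩ := R.params_unique (hw π') (hw0 π') he h0
    refine Subtype.ext (Subtype.ext (Prod.ext h1 (Finset.ext fun i => ?_)))
    have h3 := congrFun h2 i
    simp only [evals] at h3
    split_ifs at h3 with a b b <;> simp_all
  have hex : ∀ L' : Submodule (MonoidAlgebra k G) (MonoidAlgebra k G), IsCoatom L' →
      ∃ i, Nonempty ((MonoidAlgebra k G ⧸ L i) ≃ₗ[MonoidAlgebra k G] (MonoidAlgebra k G ⧸ L')) := by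
    intro L' hL'
    haveI : IsSimpleModule (MonoidAlgebra k G) (MonoidAlgebra k G ⧸ L') :=
      isSimpleModule_iff_isCoatom.2 hL'
    haveI : Module.Finite k (MonoidAlgebra k G ⧸ L') :=
      Module.Finite.of_surjective (L'.mkQ.restrictScalars k) (Submodule.mkQ_surjective _)
    haveI : Nontrivial (MonoidAlgebra k G ⧸ L') := IsSimpleModule.nontrivial (MonoidAlgebra k G) _
    obtain ⟨π, u, hu0, hu⟩ := R.exists_param (k := k) C (M := MonoidAlgebra k G ⧸ L')
    let π' : Q := ⟨π, L', hL', u, hu0, hu⟩
    exact ⟨π', R.nonempty_equiv (hw π') (hw0 π') hu hu0⟩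
  obtain ⟨m, -, hm⟩ := FiniteField.card K p
  have hqx : (orderOf (x ^ Fintype.card K)).Coprime p :=
    Nat.Coprime.coprime_dvd_left (orderOf_pow_dvd _) hx
  refine isConj_of_traces L hL hne hex hx hqx fun i => ?_
  haveI : Module.Finite k (MonoidAlgebra k G ⧸ L i) :=
    Module.Finite.of_surjective ((L i).mkQ.restrictScalars k) (Submodule.mkQ_surjective _)
  have h1 : single (x ^ Fintype.card K) (1 : k) = single x (1 : k) ^ Fintype.card K := by
    rw [MonoidAlgebra.single_pow, one_pow]
  rw [RegClassCount.act, h1, map_pow]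
  have h2 := R.trace_pow_card C hexp (L i) (hL i) x
  let b := Module.finBasis k (MonoidAlgebra k G ⧸ L i)
  have h3 : ∀ f : Module.End k (MonoidAlgebra k G ⧸ L i),
      LinearMap.trace k _ (f ^ Fintype.card K) = LinearMap.trace k _ f ^ Fintype.card K := by
    intro f
    rw [LinearMap.trace_eq_matrix_trace k b, LinearMap.trace_eq_matrix_trace k b,
      show LinearMap.toMatrix b b (f ^ Fintype.card K) = LinearMap.toMatrix b b f ^ Fintype.card K from
        map_pow (LinearMap.toMatrixAlgEquiv b) f _]
    rw [hm]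
    exact trace_pow_char_pow p m _
  rw [h3, h2]

end RankOne

end CfsgLib.Rep.CurtisRichen
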