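import Cfsg.Agent.Lib.Rep.CurtisRichen.Cells
import Cfsg.Agent.Lib.Rep.RegularClassCount

/-!
# The simple modules and their number
-/

set_option autoImplicit false

open MonoidAlgebra

namespace CfsgLib.Rep.CurtisRichen

section common

variable {k : Type*} [Field k] [IsAlgClosed k]

/-- commuting endomorphisms have a common eigenvector -/
theorem exists_common_eigenvector {S : Type*} : ∀ (N : ℕ) {M : Type*} [AddCommGroup M] [Module k M]
    [FiniteDimensional k M] [Nontrivial M] (f : S → Module.End k M),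
    Module.finrank k M = N → (∀ a b, Commute (f a) (f b)) →
    ∃ m : M, m ≠ 0 ∧ ∀ a, ∃ c : k, f a m = c • m := by
  intro N
  induction N using Nat.strong_induction_on with
  | _ N ih =>
  intro M _ _ _ _ f hN hcomm
  by_cases hall : ∀ a, ∃ c : k, ∀ m, f a m = c • m
  · obtain ⟨m, hm⟩ := exists_ne (0 : M)
    exact ⟨m, hm, fun a => ⟨(hall a).choose, (hall a).choose_spec m⟩⟩
  · push Not at hall
    obtain ⟨a, ha⟩ := hall
    obtain ⟨c, hc⟩ := Module.End.exists_eigenvalue (f a)
    set E := (f a).eigenspace c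
    have hstab : ∀ b, ∀ m ∈ E, f b m ∈ E := by
      intro b m hm
      rw [Module.End.mem_eigenspace_iff] at hm ⊢
      rw [← Module.End.mul_apply, (hcomm a b).eq, Module.End.mul_apply, hm, map_smul]
    haveI : Nontrivial E := Submodule.nontrivial_iff_ne_bot.2 hc
    have hlt : Module.finrank k E < N := by
      rw [← hN]
      refine Submodule.finrank_lt fun h => ?_
      obtain ⟨m, hm⟩ := ha c
      exact hm (Module.End.mem_eigenspace_iff.1 (show m ∈ E from h ▸ Submodule.mem_top))
    obtain ⟨m, hm, hmc⟩ := ih _ hlt (fun b => (f b).restrict (hstab b)) rfl fun b b' =>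
      LinearMap.ext fun m => Subtype.ext (LinearMap.congr_fun (hcomm b b').eq m.1)
    refine ⟨m.1, fun h => hm (Subtype.ext h), fun b => ?_⟩
    obtain ⟨e, he⟩ := hmc b
    exact ⟨e, congrArg Subtype.val he⟩

end common

namespace RankOne

variable {p : ℕ} {G : Type*} [Group G] {K : Type*} [Field K] {ι : Type*} (R : RankOne p G K ι)

/-- a weight and a set of rank one subgroups with trivial weight -/
abbrev Param (k : Type*) [Field k] : Type _ :=
  {π : (↥R.T →* k) × Finset ι // ∀ i ∈ π.2, R.Triv π.1 i}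

open Classical in
/-- the eigenvalues belonging to a set of rank one subgroups -/
noncomputable def evals {k : Type*} [Field k] (J : Finset ι) (i : ι) : k := if i ∈ J then -1 else 0

variable [Finite G] [Fintype K] [DecidableEq K] [CharP K p] [Fact p.Prime]
variable {k : Type*} [Field k] [CharP k p] [IsAlgClosed k]

theorem exists_param [Fintype ι] (C : CellSys R) {M : Type*} [AddCommGroup M] [Module k M]
    [Module (MonoidAlgebra k G) M] [IsScalarTower k (MonoidAlgebra k G) M]
    [FiniteDimensional k M] [Nontrivial M] :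
    ∃ π : R.Param k, ∃ w : M, w ≠ 0 ∧ R.IsEig π.1.1 (evals π.1.2) w := by
  classical
  let ρ : ↥R.U →* Module.End k M :=
    { toFun := fun y => op (k := k) (y : G)
      map_one' := LinearMap.ext fun m => op_one m
      map_mul' := fun a b => LinearMap.ext fun m => op_mul (a : G) b m }
  let Fx : Submodule k M :=
    { carrier := {m | ∀ u ∈ R.U, op (k := k) u m = m}
      add_mem' := fun {a b} ha hb u hu => by rw [map_add, ha u hu, hb u hu]
      zero_mem' := fun u _ => map_zero _
      smul_mem' := fun c m hm u hu => by rw [map_smul, hm u hu] }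
  obtain ⟨m₀, hm₀, hfix⟩ := exists_fixed_vector (k := k) R.hU ρ
  haveI : Nontrivial Fx :=
    ⟨⟨⟨m₀, fun u hu => hfix ⟨u, hu⟩⟩, 0, fun h => hm₀ (congrArg Subtype.val h)⟩⟩
  have hstab : ∀ t : ↥R.T, ∀ m ∈ Fx, op (k := k) (t : G) m ∈ Fx := by
    intro t m hm u hu
    rw [← op_mul, show u * (t : G) = (t : G) * ((t : G)⁻¹ * u * (t : G)) by group, op_mul,
      hm _ (by simpa using R.T_U _ (inv_mem t.2) u hu)]
  obtain ⟨⟨v, hvU⟩, hv0, hvT⟩ := exists_common_eigenvector _
    (fun t : ↥R.T => (op (k := k) (t : G) : M →ₗ[k] M).restrict (hstab t)) rfl fun s t =>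
      LinearMap.ext fun m => Subtype.ext (show op (k := k) (s : G) (op (k := k) (t : G) m.1) =
        op (k := k) (t : G) (op (k := k) (s : G) m.1) by
          rw [← op_mul, ← op_mul, R.T_comm _ s.2 _ t.2])
  have hv0' : v ≠ 0 := fun h => hv0 (Subtype.ext h)
  choose c hc using hvT
  have hc' : ∀ t : ↥R.T, op (k := k) (t : G) v = c t • v := fun t => congrArg Subtype.val (hc t)
  let χ : ↥R.T →* k :=
    { toFun := c
      map_one' := smul_left_injective k hv0' (by
        show c 1 • v = (1 : k) • v
        rw [← hc' 1, Subgroup.coe_one, op_one, one_smul])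
      map_mul' := fun s t => smul_left_injective k hv0' (by
        show c (s * t) • v = (c s * c t) • v
        rw [← hc', Subgroup.coe_mul, op_mul, hc', map_smul, hc', smul_smul, mul_comm]) }
  obtain ⟨χ', e, w, hw0, hw⟩ := C.exists_eig (χ := χ) (v := v) ⟨hvU, hc'⟩ hv0'
  let J : Finset ι := Finset.univ.filter fun i => e i ≠ 0
  have key : ∀ i, e i = 0 ∨ (R.Triv χ' i ∧ e i = -1) := by
    intro i
    have h := R.eigen_scalar hw.1 i (hw.2 i) hw0
    by_cases hd : e i = 0
    · exact Or.inl hd
    · have h2 := mul_right_cancel₀ hd h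
      rw [R.hsum_eq] at h2
      split_ifs at h2 with ht
      · exact Or.inr ⟨ht, h2⟩
      · exact absurd h2 hd
  refine ⟨⟨(χ', J), fun i hi => ((key i).resolve_left (Finset.mem_filter.1 hi).2).1⟩, w, hw0, hw.1,
    fun i => ?_⟩
  rw [hw.2 i]
  congr 1
  rcases key i with h | ⟨-, h⟩ <;> simp [evals, J, h]

/-- **Curtis–Richen**: the classes of regular elements are as many as the parameters -/
theorem card_regular_eq [Fintype ι] (C : CellSys R)
    (hreal : ∀ π : R.Param k, ∃ v : MonoidAlgebra k G, v ≠ 0 ∧ R.IsEig π.1.1 (evals π.1.2) v)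
    [Finite (R.Param k)] :
    Nat.card {c : ConjClasses G // ∃ g : G, ConjClasses.mk g = c ∧ (orderOf g).Coprime p} =
      Nat.card (R.Param k) := by
  classical
  haveI : Fintype (R.Param k) := Fintype.ofFinite _
  rw [Nat.card_eq_fintype_card (α := R.Param k)]
  choose v hv0 hv using hreal
  haveI : IsArtinianRing (MonoidAlgebra k G) := IsArtinianRing.of_finite k _
  have hmax : ∀ π : R.Param k, ∃ L : Submodule (MonoidAlgebra k G) (MonoidAlgebra k G), IsCoatom L ∧
      ∃ w : MonoidAlgebra k G ⧸ L, w ≠ 0 ∧ R.IsEig π.1.1 (evals π.1.2) w := by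
    intro π
    let An : Submodule (MonoidAlgebra k G) (MonoidAlgebra k G) :=
      LinearMap.ker (LinearMap.toSpanSingleton (MonoidAlgebra k G) (MonoidAlgebra k G) (v π))
    have hAn : ∀ a, a ∈ An ↔ a * v π = 0 := fun a => Iff.rfl
    have h1 : An ≠ ⊤ := fun h => hv0 π (by
      have := (hAn 1).1 (h ▸ Submodule.mem_top)
      rwa [one_mul] at this)
    obtain ⟨L, hL, hle⟩ := (eq_top_or_exists_le_coatom An).resolve_left h1
    refine ⟨L, hL, Submodule.Quotient.mk 1, fun h => hL.1 ?_, ⟨fun u hu => ?_, fun t => ?_⟩, fun i => ?_⟩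
    · rw [Submodule.Quotient.mk_eq_zero] at h
      exact Submodule.eq_top_iff'.2 fun a => by simpa using L.smul_mem a h
    all_goals
      first
        | rw [op_apply, ← Submodule.Quotient.mk_smul, smul_eq_mul, mul_one]
        | rw [Top_apply]
    · rw [Submodule.Quotient.eq]
      refine hle ((hAn _).2 ?_)
      rw [sub_mul, one_mul, sub_eq_zero]
      exact (hv π).1.1 u hu
    · rw [← Submodule.Quotient.mk_smul, Submodule.Quotient.eq]
      refine hle ((hAn _).2 ?_)
      rw [sub_mul, smul_mul_assoc, one_mul, sub_eq_zero]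
      exact (hv π).1.2 t
    · simp only [op_apply, ← Submodule.Quotient.mk_smul, smul_eq_mul, mul_one]
      change ∑ t : K, L.mkQ (single (R.φ i (upp t) * R.n i) (1 : k)) =
        L.mkQ (evals π.1.2 i • (1 : MonoidAlgebra k G))
      rw [← map_sum L.mkQ]
      change Submodule.Quotient.mk (p := L) _ = Submodule.Quotient.mk (p := L) _
      rw [Submodule.Quotient.eq]
      refine hle ((hAn _).2 ?_)
      rw [sub_mul, smul_mul_assoc, one_mul, sub_eq_zero, Finset.sum_mul]
      have h := (hv π).2 i
      rw [Top_apply] at h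
      exact h
  choose L hL w hw0 hw using hmax
  haveI hsim : ∀ π, IsSimpleModule (MonoidAlgebra k G) (MonoidAlgebra k G ⧸ L π) := fun π =>
    isSimpleModule_iff_isCoatom.2 (hL π)
  refine CfsgLib.Rep.RegClassCount.card_regular_classes L hL ?_ ?_
  · rintro π π' ⟨e⟩
    have hop : ∀ (g : G) (x : MonoidAlgebra k G ⧸ L π),
        op (k := k) g (e x) = e (op (k := k) g x) := fun g x => (map_smul e _ x).symm
    have hk : ∀ (a : k) (x : MonoidAlgebra k G ⧸ L π), e (a • x) = a • e x := fun a x => by
      rw [← algebraMap_smul (MonoidAlgebra k G) a x, map_smul, algebraMap_smul]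
    have he : R.IsEig π.1.1 (evals π.1.2) (e (w π)) := by
      refine ⟨⟨fun u hu => by rw [hop, (hw π).1.1 u hu], fun t => by rw [hop, (hw π).1.2, hk]⟩,
        fun i => ?_⟩
      have h := (hw π).2 i
      rw [Top_apply] at h ⊢
      simp only [hop, ← map_sum, h, hk]
    have h0 : e (w π) ≠ 0 := fun h => hw0 π (e.map_eq_zero_iff.1 h)
    obtain ⟨h1, h2⟩ := R.params_unique (hw π') (hw0 π') he h0
    refine Subtype.ext (Prod.ext h1 (Finset.ext fun i => ?_))
    have h3 := congrFun h2 i
    simp only [evals] at h3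
    split_ifs at h3 with a b b <;> simp_all
  · intro L' hL'
    haveI : IsSimpleModule (MonoidAlgebra k G) (MonoidAlgebra k G ⧸ L') :=
      isSimpleModule_iff_isCoatom.2 hL'
    haveI : Module.Finite k (MonoidAlgebra k G ⧸ L') :=
      Module.Finite.of_surjective (L'.mkQ.restrictScalars k) (Submodule.mkQ_surjective _)
    haveI : Nontrivial (MonoidAlgebra k G ⧸ L') := IsSimpleModule.nontrivial (MonoidAlgebra k G) _
    obtain ⟨π, u, hu0, hu⟩ := R.exists_param (k := k) C (M := MonoidAlgebra k G ⧸ L')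
    exact ⟨π, R.nonempty_equiv (hw π) (hw0 π) hu hu0⟩

omit [Finite G] in
/-- counting the parameters when the torus is the product of the rank one tori -/
theorem card_param [Fintype ι] [DecidableEq ι] (θ : (ι → Kˣ) ≃* ↥R.T)
    (hθ : ∀ i a, θ (Pi.mulSingle i a) = R.h i a) :
    Finite (R.Param k) ∧ Nat.card (R.Param k) = Fintype.card K ^ Fintype.card ι := by
  classical
  have hext : ∀ (χ χ' : ↥R.T →* k), (∀ i a, χ (R.h i a) = χ' (R.h i a)) → χ = χ' := by
    intro χ χ' h
    ext t
    obtain ⟨c, rfl⟩ := θ.surjective t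
    show (χ.comp θ.toMonoidHom) c = (χ'.comp θ.toMonoidHom) c
    rw [← Finset.univ_prod_mulSingle c, map_prod, map_prod]
    refine Finset.prod_congr rfl fun i _ => ?_
    show χ (θ _) = χ' (θ _)
    rw [hθ]
    exact h i (c i)
  let e : (↥R.T →* k) ≃ (ι → (Kˣ →* k)) :=
    { toFun := fun χ i => χ.comp (R.h i)
      invFun := fun f => (∏ i, (f i).comp (Pi.evalMonoidHom (fun _ : ι => Kˣ) i)).comp θ.symm.toMonoidHom
      left_inv := fun χ => hext _ _ fun i a => by
        simp only [MonoidHom.comp_apply, MonoidHom.finsetProd_apply, MulEquiv.coe_toMonoidHom, ← hθ,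
          MulEquiv.symm_apply_apply, Pi.evalMonoidHom_apply]
        rw [Finset.prod_eq_single i (fun j _ hj => by rw [Pi.mulSingle_eq_of_ne hj,
          Pi.mulSingle_one, map_one, map_one])
          (by simp), Pi.mulSingle_eq_same, hθ]
      right_inv := fun f => funext fun i => MonoidHom.ext fun a => by
        simp only [MonoidHom.comp_apply, MonoidHom.finsetProd_apply, MulEquiv.coe_toMonoidHom, ← hθ,
          MulEquiv.symm_apply_apply, Pi.evalMonoidHom_apply]
        rw [Finset.prod_eq_single i (fun j _ hj => by rw [Pi.mulSingle_eq_of_ne hj, map_one])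
          (by simp), Pi.mulSingle_eq_same] }
  obtain ⟨g, hg⟩ := IsCyclic.exists_generator (α := Kˣ)
  have hcardU : orderOf g = Fintype.card K - 1 := by
    rw [orderOf_eq_card_of_forall_mem_zpowers hg, Nat.card_eq_fintype_card, Fintype.card_units]
  haveI : NeZero ((Fintype.card K - 1 : ℕ) : k) := ⟨by
    rw [Nat.cast_sub Fintype.card_pos, natCast_card (K := K) p, Nat.cast_one, zero_sub]
    exact neg_ne_zero.2 one_ne_zero⟩
  obtain ⟨ζ, hζ⟩ := HasEnoughRootsOfUnity.exists_primitiveRoot k (Fintype.card K - 1)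
  have hinjU : Function.Injective fun f : Kˣ →* k => f g := by
    intro f f' h
    ext a
    obtain ⟨j, rfl⟩ := (mem_powers_iff_mem_zpowers).2 (hg a)
    show f (g ^ j) = f' (g ^ j)
    rw [map_pow, map_pow, show f g = f' g from h]
  have hne0 : Fintype.card K - 1 ≠ 0 := hcardU ▸ (orderOf_pos g).ne'
  have hrange : (Set.range fun f : Kˣ →* k => f g) = {z | z ^ (Fintype.card K - 1) = 1} := by
    ext z
    constructor
    · rintro ⟨f, rfl⟩
      show f g ^ _ = 1
      rw [← map_pow, ← hcardU, pow_orderOf_eq_one, map_one]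
    · intro hz
      let u : kˣ := Units.ofPowEqOne z _ hz hne0
      have hu : orderOf u ∣ orderOf g := by
        rw [hcardU]; exact orderOf_dvd_of_pow_eq_one (Units.pow_ofPowEqOne hz hne0)
      exact ⟨(Units.coeHom k).comp (monoidHomOfForallMemZpowers hg hu),
        congrArg Units.val (monoidHomOfForallMemZpowers_apply_gen hg hu)⟩
  have hfinU : Set.Finite {z : k | z ^ (Fintype.card K - 1) = 1} :=
    (Polynomial.nthRootsFinset (Fintype.card K - 1) (1 : k)).finite_toSet.subset fun z hz =>
      (Polynomial.mem_nthRootsFinset (Nat.pos_of_ne_zero hne0) _).2 hz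
  haveI hfinHom : Finite (Kˣ →* k) :=
    Set.finite_univ_iff.1 (Set.Finite.of_finite_image ((hrange ▸ hfinU).subset (Set.image_subset_range _ _)) hinjU.injOn)
  haveI : Fintype (Kˣ →* k) := Fintype.ofFinite _
  have hcard : Fintype.card (Kˣ →* k) = Fintype.card K - 1 := by
    rw [← Nat.card_eq_fintype_card, ← Nat.card_range_of_injective hinjU, hrange]
    refine Eq.trans ?_ hζ.card_nthRootsFinset
    rw [← Nat.card_eq_finsetCard]
    refine Nat.card_congr (Equiv.subtypeEquivRight fun z => ?_)
    rw [Polynomial.mem_nthRootsFinset (Nat.pos_of_ne_zero hne0)]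
    exact Iff.rfl
  haveI : Finite (↥R.T →* k) := Finite.of_equiv _ e.symm
  haveI : Fintype (↥R.T →* k) := Fintype.ofFinite _
  haveI hfin : Finite (R.Param k) :=
    inferInstanceAs (Finite {π : (↥R.T →* k) × Finset ι // ∀ i ∈ π.2, R.Triv π.1 i})
  refine ⟨hfin, ?_⟩
  rw [show Nat.card (R.Param k) = ∑ χ : ↥R.T →* k,
      Nat.card {J : Finset ι // ∀ i ∈ J, R.Triv χ i} by
    rw [← Nat.card_sigma]
    exact Nat.card_congr (Equiv.subtypeProdEquivSigmaSubtype
      (fun (χ : ↥R.T →* k) (J : Finset ι) => ∀ i ∈ J, R.Triv χ i))]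
  have h1 : ∀ χ : ↥R.T →* k, Nat.card {J : Finset ι // ∀ i ∈ J, R.Triv χ i} =
      ∏ i, if e χ i = 1 then 2 else 1 := by
    intro χ
    have hiff : ∀ i, R.Triv χ i ↔ e χ i = 1 := fun i =>
      ⟨fun h => MonoidHom.ext h, fun h a => DFunLike.congr_fun h a⟩
    rw [Finset.prod_ite, Finset.prod_const, Finset.prod_const, one_pow, mul_one, ← Finset.card_powerset,
      ← Nat.card_eq_finsetCard]
    refine Nat.card_congr (Equiv.subtypeEquivRight fun J => ?_)
    simp [Finset.subset_iff, hiff]
  rw [Finset.sum_congr rfl fun χ _ => h1 χ,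
    e.sum_comp (fun f : ι → (Kˣ →* k) => ∏ i, if f i = 1 then 2 else 1),
    ← Fintype.prod_sum (fun (_ : ι) (f : Kˣ →* k) => if f = 1 then 2 else 1), Finset.prod_const,
    Finset.card_univ]
  congr 1
  rw [Finset.sum_ite, Finset.sum_const, Finset.sum_const, Finset.filter_eq', if_pos (Finset.mem_univ _),
    Finset.card_singleton, Finset.filter_ne', Finset.card_erase_of_mem (Finset.mem_univ _),
    Finset.card_univ, hcard, smul_eq_mul, smul_eq_mul]
  have := Fintype.one_lt_card (α := K)
  omega

end RankOne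

end CfsgLib.Rep.CurtisRichen
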