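import Cfsg.Agent.Lib.Rep.CurtisRichen.Cyclic

/-!
# Sums over cells and the existence of eigenvectors

The sum over the unipotent part of a cell applied to a weight vector is again a weight vector; the
rank one operators raise the cell, and a longest nonvanishing cell gives an eigenvector.
-/

set_option autoImplicit false

open MonoidAlgebra

namespace CfsgLib.Rep.CurtisRichen

/-- cells indexed by the elements of a subgroup normalising the torus -/
structure CellSys {p : ℕ} {G : Type*} [Group G] {K : Type*} [Field K] {ι : Type*}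
    (R : RankOne p G K ι) where
  /-- the monomial elements -/
  N : Subgroup G
  /-- unipotent part of a cell -/
  cell : G → Subgroup G
  /-- the length -/
  len : G → ℕ
  /-- a bound of the length -/
  bound : ℕ
  len_le : ∀ m ∈ N, len m ≤ bound
  n_mem : ∀ i, R.n i ∈ N
  N_T : ∀ m ∈ N, ∀ t ∈ R.T, m⁻¹ * t * m ∈ R.T
  cell_one : cell 1 = ⊥
  cell_le : ∀ m ∈ N, cell m ≤ R.U
  cell_split : ∀ m ∈ N, ∀ u ∈ R.U, ∃ a ∈ cell m, ∃ b ∈ R.U, u = a * b ∧ m⁻¹ * b * m ∈ R.U
  cell_inf : ∀ m ∈ N, ∀ a ∈ cell m, m⁻¹ * a * m ∈ R.U → a = 1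
  cell_T : ∀ m ∈ N, ∀ t ∈ R.T, ∀ a ∈ cell m, t * a * t⁻¹ ∈ cell m
  asc_mem : ∀ i, ∀ m ∈ N, len m < len (R.n i * m) → ∀ t : K, ∀ a ∈ cell m,
    R.φ i (upp t) * (R.n i * a * (R.n i)⁻¹) ∈ cell (R.n i * m)
  asc_inj : ∀ i, ∀ m ∈ N, len m < len (R.n i * m) → ∀ t t' : K, ∀ a ∈ cell m, ∀ a' ∈ cell m,
    R.φ i (upp t) * (R.n i * a * (R.n i)⁻¹) = R.φ i (upp t') * (R.n i * a' * (R.n i)⁻¹) →
      t = t' ∧ a = a'
  asc_surj : ∀ i, ∀ m ∈ N, len m < len (R.n i * m) → ∀ b ∈ cell (R.n i * m),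
    ∃ t : K, ∃ a ∈ cell m, R.φ i (upp t) * (R.n i * a * (R.n i)⁻¹) = b
  dich : ∀ i, ∀ m ∈ N, len m < len (R.n i * m) ∨ len ((R.n i)⁻¹ * m) < len m

namespace CellSys

variable {p : ℕ} {G : Type*} [Group G] [Finite G] {K : Type*} [Field K] {ι : Type*}
  {R : RankOne p G K ι} (C : CellSys R)
variable {k : Type*} [Field k] {M : Type*} [AddCommGroup M] [Module k M]
  [Module (MonoidAlgebra k G) M] [IsScalarTower k (MonoidAlgebra k G) M]

/-- the sum over a cell -/
noncomputable def Fsum (m : G) : M →ₗ[k] M :=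
  letI := Fintype.ofFinite ↥(C.cell m)
  ∑ a : ↥(C.cell m), RankOne.op (k := k) ((a : G) * m)

theorem Fsum_apply (m : G) [Fintype ↥(C.cell m)] (v : M) :
    C.Fsum (k := k) m v = ∑ a : ↥(C.cell m), RankOne.op (k := k) ((a : G) * m) v := by
  rw [Fsum, LinearMap.sum_apply]
  convert rfl

/-- the weight moved by a monomial element -/
def wtConj {m : G} (hm : m ∈ C.N) (χ : ↥R.T →* k) : ↥R.T →* k :=
  χ.comp
    { toFun := fun t => ⟨m⁻¹ * (t : G) * m, C.N_T m hm _ t.2⟩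
      map_one' := Subtype.ext (by simp)
      map_mul' := fun s t => Subtype.ext (by simp [mul_assoc]) }

theorem wtConj_apply {m : G} (hm : m ∈ C.N) (χ : ↥R.T →* k) (t : ↥R.T) :
    C.wtConj hm χ t = χ ⟨m⁻¹ * (t : G) * m, C.N_T m hm _ t.2⟩ := rfl

variable {χ : ↥R.T →* k} {v : M} (hv : R.IsWt χ v)

include hv

theorem isWt_Fsum {m : G} (hm : m ∈ C.N) : R.IsWt (C.wtConj hm χ) (C.Fsum (k := k) m v) := by
  classical
  letI := Fintype.ofFinite ↥(C.cell m)
  constructor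
  · intro u hu
    rw [C.Fsum_apply, map_sum]
    have hsplit : ∀ a : ↥(C.cell m), ∃ a' : ↥(C.cell m),
        ∃ b ∈ R.U, u * (a : G) = (a' : G) * b ∧ m⁻¹ * b * m ∈ R.U := by
      intro a
      obtain ⟨a', ha', b, hb, e, hb'⟩ := C.cell_split m hm _ (mul_mem hu (C.cell_le m hm a.2))
      exact ⟨⟨a', ha'⟩, b, hb, e, hb'⟩
    choose f b hb e hb' using hsplit
    have hf : Function.Bijective f := by
      rw [← Finite.injective_iff_bijective]
      intro a a' h
      have e1 := e a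
      have e2 := e a'
      rw [h] at e1
      have h1 : (a : G)⁻¹ * (a' : G) = (b a)⁻¹ * b a' := by
        rw [show (a : G) = u⁻¹ * ((f a' : G) * b a) by rw [← e1, inv_mul_cancel_left],
          show (a' : G) = u⁻¹ * ((f a' : G) * b a') by rw [← e2, inv_mul_cancel_left]]
        group
      have h2 := C.cell_inf m hm _ (mul_mem (inv_mem a.2) a'.2) (by
        rw [h1, show m⁻¹ * ((b a)⁻¹ * b a') * m = (m⁻¹ * b a * m)⁻¹ * (m⁻¹ * b a' * m) by group]
        exact mul_mem (inv_mem (hb' a)) (hb' a'))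
      exact Subtype.ext (inv_mul_eq_one.1 h2)
    refine Fintype.sum_bijective f hf _ _ fun a => ?_
    rw [← RankOne.op_mul, show u * ((a : G) * m) = (f a : G) * m * (m⁻¹ * b a * m) by
      rw [← mul_assoc, e a]; group, RankOne.op_mul, hv.1 _ (hb' a)]
  · intro t
    rw [C.Fsum_apply, map_sum, Finset.smul_sum]
    have hf : Function.Bijective fun a : ↥(C.cell m) =>
        (⟨(t : G) * a * (t : G)⁻¹, C.cell_T m hm _ t.2 _ a.2⟩ : ↥(C.cell m)) := by
      rw [← Finite.injective_iff_bijective]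
      intro a a' h
      exact Subtype.ext (mul_left_cancel (mul_right_cancel (congrArg Subtype.val h :)))
    refine Fintype.sum_bijective _ hf _ _ fun a => ?_
    rw [← RankOne.op_mul, show (t : G) * ((a : G) * m) =
      ((t : G) * a * (t : G)⁻¹) * m * (m⁻¹ * (t : G) * m) by group, RankOne.op_mul,
      show RankOne.op (k := k) (m⁻¹ * (t : G) * m) v = _ from hv.2 ⟨_, C.N_T m hm _ t.2⟩, map_smul,
      wtConj_apply]

variable [Fintype K]

omit hv in
theorem Top_Fsum {i : ι} {m : G} (hm : m ∈ C.N) (hasc : C.len m < C.len (R.n i * m)) :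
    R.Top (k := k) i (C.Fsum (k := k) m v) = C.Fsum (k := k) (R.n i * m) v := by
  classical
  letI := Fintype.ofFinite ↥(C.cell m)
  letI := Fintype.ofFinite ↥(C.cell (R.n i * m))
  rw [RankOne.Top_apply, C.Fsum_apply, C.Fsum_apply]
  simp only [map_sum, ← RankOne.op_mul]
  rw [← Fintype.sum_prod_type']
  refine Fintype.sum_bijective
    (fun x : K × ↥(C.cell m) => (⟨_, C.asc_mem i m hm hasc x.1 _ x.2.2⟩ : ↥(C.cell (R.n i * m))))
    ⟨?_, ?_⟩ _ _ fun x => ?_
  · rintro ⟨t, a⟩ ⟨t', a'⟩ h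
    obtain ⟨h1, h2⟩ := C.asc_inj i m hm hasc t t' _ a.2 _ a'.2 (congrArg Subtype.val h :)
    exact Prod.ext h1 (Subtype.ext h2)
  · rintro ⟨b, hb⟩
    obtain ⟨t, a, ha, e⟩ := C.asc_surj i m hm hasc b hb
    exact ⟨(t, ⟨a, ha⟩), Subtype.ext e⟩
  · congr 2
    group

variable [DecidableEq K] [CharP K p] [CharP k p] [Fact p.Prime]

/-- the operator on a cell which it lowers -/
theorem Top_Fsum_desc {i : ι} {m : G} (hm : m ∈ C.N) (hdesc : C.len ((R.n i)⁻¹ * m) < C.len m) :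
    R.Top (k := k) i (C.Fsum (k := k) m v) =
      R.hsum (C.wtConj (mul_mem (inv_mem (C.n_mem i)) hm) χ) i • C.Fsum (k := k) m v := by
  have hm' : (R.n i)⁻¹ * m ∈ C.N := mul_mem (inv_mem (C.n_mem i)) hm
  have h1 := C.Top_Fsum (k := k) (v := v) (i := i) hm' (by rwa [mul_inv_cancel_left])
  rw [mul_inv_cancel_left] at h1
  rw [← h1]
  exact R.Top_Top (C.isWt_Fsum hv hm') i

include C in
/-- a nonzero weight vector gives an eigenvector -/
theorem exists_eig (hv0 : v ≠ 0) :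
    ∃ (χ' : ↥R.T →* k) (c : ι → k) (w : M), w ≠ 0 ∧ R.IsEig χ' c w := by
  classical
  let S : Set ℕ := {l | ∃ m ∈ C.N, C.len m = l ∧ C.Fsum (k := k) m v ≠ 0}
  have hbdd : BddAbove S := ⟨C.bound, by rintro l ⟨m, hm, rfl, -⟩; exact C.len_le m hm⟩
  have hne : S.Nonempty := by
    refine ⟨C.len 1, 1, one_mem _, rfl, ?_⟩
    letI := Fintype.ofFinite ↥(C.cell 1)
    rw [C.Fsum_apply, Fintype.sum_eq_single (1 : ↥(C.cell 1)) fun a ha => absurd (Subtype.ext
      (Subgroup.mem_bot.1 ((le_of_eq C.cell_one : C.cell 1 ≤ ⊥) a.2))) ha]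
    rwa [Subgroup.coe_one, mul_one, RankOne.op_one]
  obtain ⟨l, ⟨m, hm, rfl, hF⟩, hmax⟩ := Set.exists_max_image S id
    ((Set.finite_Iic C.bound).subset (by rintro l ⟨m, hm, rfl, -⟩; exact C.len_le m hm)) hne
  refine ⟨C.wtConj hm χ, fun i => if C.len m < C.len (R.n i * m) then 0 else
    R.hsum (C.wtConj (mul_mem (inv_mem (C.n_mem i)) hm) χ) i, _, hF, C.isWt_Fsum hv hm, fun i => ?_⟩
  by_cases h : C.len m < C.len (R.n i * m)
  · simp only [if_pos h, zero_smul]
    rw [C.Top_Fsum hm h]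
    by_contra hne'
    exact absurd (hmax _ ⟨R.n i * m, mul_mem (C.n_mem i) hm, rfl, hne'⟩) (not_le.2 h)
  · simp only [if_neg h]
    exact C.Top_Fsum_desc hv hm ((C.dich i m hm).resolve_left h)

end CellSys

end CfsgLib.Rep.CurtisRichen
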