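import Cfsg.Agent.Lib.Rep.CurtisRichen.Setup

/-!
# Modules generated by a common eigenvector

Such a module is spanned by the lower translates of the vector, which determines the weight and the
eigenvalues, and a simple module is determined by them.
-/

set_option autoImplicit false

open MonoidAlgebra

namespace CfsgLib.Rep.CurtisRichen

section fixed

variable {k V : Type*} [Field k] [Group V] {p : ℕ} [Fact p.Prime] [CharP k p]

/-- a `p`-group fixes a nonzero vector in characteristic `p` -/
theorem exists_fixed_vector [Finite V] (hV : IsPGroup p V) {M : Type*} [AddCommGroup M] [Module k M]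
    [Nontrivial M] (ρ : V →* Module.End k M) : ∃ m : M, m ≠ 0 ∧ ∀ g, ρ g m = m := by
  classical
  obtain ⟨m₀, hm₀⟩ := exists_ne (0 : M)
  haveI : Fintype V := Fintype.ofFinite V
  have hp0 : ∀ m : M, p • m = 0 := fun m => by
    rw [← Nat.cast_smul_eq_nsmul k, CharP.cast_eq_zero, zero_smul]
  let S : AddSubgroup M := AddSubgroup.closure (Set.range fun g => ρ g m₀)
  let span : (V → ZMod p) → M := fun f => ∑ g, (f g).val • ρ g m₀
  have hmem : ∀ m ∈ S, ∀ g, ρ g m ∈ S := by
    intro m hm g
    induction hm using AddSubgroup.closure_induction with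
    | mem x hx =>
      obtain ⟨h, rfl⟩ := hx
      exact AddSubgroup.subset_closure ⟨g * h, by show ρ (g * h) m₀ = ρ g (ρ h m₀); rw [map_mul]; rfl⟩
    | zero => rw [map_zero]; exact zero_mem _
    | add x y _ _ hx hy => rw [map_add]; exact add_mem hx hy
    | neg x _ hx => rw [map_neg]; exact neg_mem hx
  have hsub : (S : Set M) ⊆ Set.range span := by
    intro m hm
    induction hm using AddSubgroup.closure_induction with
    | mem x hx =>
      obtain ⟨h, rfl⟩ := hx
      refine ⟨Pi.single h 1, ?_⟩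
      simp only [span]
      rw [Finset.sum_eq_single h (fun g _ hg => by simp [hg]) (by simp), Pi.single_eq_same,
        ZMod.val_one, one_smul]
    | zero => exact ⟨0, by simp [span]⟩
    | add x y _ _ hx hy =>
      obtain ⟨f, rfl⟩ := hx
      obtain ⟨f', rfl⟩ := hy
      refine ⟨f + f', ?_⟩
      simp only [span, Pi.add_apply]
      rw [← Finset.sum_add_distrib]
      simp only [← add_smul]
      refine Finset.sum_congr rfl fun g _ => ?_
      rw [ZMod.val_add]
      conv_rhs => rw [← Nat.mod_add_div ((f g).val + (f' g).val) p, add_smul, mul_smul, hp0, add_zero]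
    | neg x _ hx =>
      obtain ⟨f, rfl⟩ := hx
      refine ⟨-f, ?_⟩
      rw [eq_neg_iff_add_eq_zero]
      simp only [span, Pi.neg_apply]
      rw [← Finset.sum_add_distrib]
      simp only [← add_smul]
      refine Finset.sum_eq_zero fun g _ => ?_
      obtain ⟨c, hc⟩ : p ∣ ((-f g).val + (f g).val) := by
        rw [← ZMod.natCast_eq_zero_iff, Nat.cast_add, ZMod.natCast_zmod_val,
          ZMod.natCast_zmod_val, neg_add_cancel]
      rw [hc, mul_smul, hp0]
  haveI : Finite S := ((Set.finite_range span).subset hsub).to_subtype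
  letI : MulAction V S :=
    { smul := fun g m => ⟨ρ g m.1, hmem _ m.2 g⟩
      one_smul := fun m => Subtype.ext (show ρ 1 m.1 = m.1 by rw [map_one]; rfl)
      mul_smul := fun g h m => Subtype.ext (show ρ (g * h) m.1 = ρ g (ρ h m.1) by rw [map_mul]; rfl) }
  have hdvd : p ∣ Nat.card S := by
    have h0 : (⟨m₀, AddSubgroup.subset_closure ⟨1, by show ρ 1 m₀ = m₀; rw [map_one]; rfl⟩⟩ : S) ≠ 0 := fun h =>
      hm₀ (congrArg Subtype.val h)
    have hord := addOrderOf_eq_prime (Subtype.ext (hp0 m₀)) h0
    rw [← hord]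
    exact addOrderOf_dvd_natCard _
  have hfix : (0 : S) ∈ MulAction.fixedPoints V S := fun g => Subtype.ext (map_zero (ρ g))
  obtain ⟨b, hb, hne⟩ := hV.exists_fixed_point_of_prime_dvd_card_of_fixed_point S hdvd hfix
  exact ⟨b.1, fun h => hne (Subtype.ext h.symm), fun g => congrArg Subtype.val (hb g)⟩

/-- a nonzero finite-dimensional module has a nonzero invariant functional -/
theorem exists_invariant_functional [Finite V] (hV : IsPGroup p V) {M : Type*} [AddCommGroup M]
    [Module k M] [Nontrivial M] (ρ : V →* Module.End k M) :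
    ∃ ε : M →ₗ[k] k, ε ≠ 0 ∧ ∀ g m, ε (ρ g m) = ε m := by
  let ρ' : V →* Module.End k (Module.Dual k M) :=
    { toFun := fun g => (ρ g⁻¹).dualMap
      map_one' := by
        refine LinearMap.ext fun f => LinearMap.ext fun m => ?_
        show f (ρ 1⁻¹ m) = f m
        rw [inv_one, map_one]
        rfl
      map_mul' := fun g h => by
        refine LinearMap.ext fun f => LinearMap.ext fun m => ?_
        show f (ρ (g * h)⁻¹ m) = f (ρ h⁻¹ (ρ g⁻¹ m))
        rw [mul_inv_rev, map_mul]
        rfl }
  obtain ⟨ε, hε, hfix⟩ := exists_fixed_vector (k := k) hV ρ'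
  refine ⟨ε, hε, fun g m => ?_⟩
  have h := LinearMap.congr_fun (hfix g⁻¹) m
  change ε (ρ g⁻¹⁻¹ m) = ε m at h
  rwa [inv_inv] at h

end fixed

namespace RankOne

variable {p : ℕ} {G : Type*} [Group G] {K : Type*} [Field K] {ι : Type*} (R : RankOne p G K ι)
  [Fintype K] [DecidableEq K] [CharP K p] [Fact p.Prime]
variable {k : Type*} [Field k] [CharP k p] {M : Type*} [AddCommGroup M] [Module k M]
  [Module (MonoidAlgebra k G) M] [IsScalarTower k (MonoidAlgebra k G) M]

/-- a weight vector that is an eigenvector of all rank one operators -/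
def IsEig (χ : ↥R.T →* k) (c : ι → k) (v : M) : Prop :=
  R.IsWt χ v ∧ ∀ i, R.Top (k := k) i v = c i • v

/-- the span of the lower translates of a vector -/
noncomputable def lowSpan (k : Type*) [Field k] {M : Type*} [AddCommGroup M] [Module k M]
    [Module (MonoidAlgebra k G) M] [IsScalarTower k (MonoidAlgebra k G) M] (v : M) : Submodule k M :=
  Submodule.span k (Set.range fun y : ↥R.V => op (k := k) (y : G) v)

variable {χ : ↥R.T →* k} {c : ι → k} {v : M}

theorem self_mem_lowSpan (v : M) : v ∈ R.lowSpan k v :=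
  Submodule.subset_span ⟨1, op_one v⟩

variable (hv : R.IsEig χ c v)

include hv

theorem lowSpan_stable [Finite G] (g : G) {m : M} (hm : m ∈ R.lowSpan k v) : op (k := k) g m ∈ R.lowSpan k v := by
  classical
  let H : Subgroup G :=
    { carrier := {g | ∀ m ∈ R.lowSpan k v, op (k := k) g m ∈ R.lowSpan k v}
      one_mem' := fun m hm => by rwa [op_one]
      mul_mem' := fun {a b} ha hb m hm => by rw [op_mul]; exact ha _ (hb m hm)
      inv_mem' := fun {a} ha => by
        have hpow : ∀ j : ℕ, ∀ m ∈ R.lowSpan k v, op (k := k) (a ^ j) m ∈ R.lowSpan k v := by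
          intro j
          induction j with
          | zero => intro m hm; rwa [pow_zero, op_one]
          | succ j ih => intro m hm; rw [pow_succ, op_mul]; exact ih _ (ha m hm)
        intro m hm
        rw [show a⁻¹ = a ^ (orderOf a - 1) by
          rw [inv_eq_iff_mul_eq_one, ← pow_succ', Nat.sub_add_cancel (orderOf_pos a),
            pow_orderOf_eq_one]]
        exact hpow _ m hm }
  have hV : (R.V : Set G) ⊆ H := by
    intro y hy m hm
    induction hm using Submodule.span_induction with
    | mem x hx =>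
      obtain ⟨z, rfl⟩ := hx
      exact Submodule.subset_span ⟨⟨y, hy⟩ * z, op_mul _ _ _⟩
    | zero => rw [map_zero]; exact zero_mem _
    | add x y _ _ hx hy => rw [map_add]; exact add_mem hx hy
    | smul a x _ hx => rw [map_smul]; exact Submodule.smul_mem _ a hx
  have hn : ∀ i, R.n i ∈ H := by
    intro i m hm
    induction hm using Submodule.span_induction with
    | mem x hx =>
      obtain ⟨⟨y, hy⟩, rfl⟩ := hx
      obtain ⟨e, he, t, rfl, hen⟩ := R.split i y hy
      show op (k := k) (R.n i) (op (k := k) (e * R.φ i (low t)) v) ∈ _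
      rw [← op_mul, show R.n i * (e * R.φ i (low t)) =
        (R.n i * e * (R.n i)⁻¹) * (R.n i * R.φ i (low t)) by group, op_mul]
      refine hV hen _ ?_
      -- `n y(t) v = n² n⁻¹ y(t) v`
      rw [show R.n i * R.φ i (low t) = (R.n i * R.n i) * ((R.n i)⁻¹ * R.φ i (low t)) by group, op_mul,
        op_mul (R.n i)⁻¹]
      have hsq : R.n i * R.n i = (R.h i (-1) : G) := by
        show R.φ i wey * R.φ i wey = R.φ i (dia (-1))
        rw [← map_mul, wey_sq]
      have hT : ∀ z : ↥R.T, ∀ m' ∈ Submodule.span k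
          (Set.range fun s : K => op (k := k) (R.φ i (low s)) v), op (k := k) (z : G) m' ∈ R.lowSpan k v := by
        intro z m' hm'
        induction hm' using Submodule.span_induction with
        | mem x hx =>
          obtain ⟨s, rfl⟩ := hx
          rw [← op_mul, show (z : G) * R.φ i (low s) =
            ((z : G) * R.φ i (low s) * (z : G)⁻¹) * (z : G) by group, op_mul, hv.1.2, map_smul]
          exact Submodule.smul_mem _ _
            (Submodule.subset_span ⟨⟨_, R.T_V _ z.2 _ (R.low_mem i s)⟩, rfl⟩)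
        | zero => rw [map_zero]; exact zero_mem _
        | add x y _ _ hx hy => rw [map_add]; exact add_mem hx hy
        | smul a x _ hx => rw [map_smul]; exact Submodule.smul_mem _ a hx
      rw [hsq]
      refine hT _ _ ?_
      by_cases h0 : t = 0
      · rw [h0, low_zero, map_one, op_one]
        exact R.ninv_mem_span hv.1 i (hv.2 i)
      · obtain ⟨u, rfl⟩ : ∃ u : Kˣ, t = u := ⟨Units.mk0 t h0, rfl⟩
        rw [R.n_low hv.1 i u]
        exact Submodule.smul_mem _ _ (Submodule.subset_span ⟨_, rfl⟩)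
    | zero => rw [map_zero]; exact zero_mem _
    | add x y _ _ hx hy => rw [map_add]; exact add_mem hx hy
    | smul a x _ hx => rw [map_smul]; exact Submodule.smul_mem _ a hx
  have hgH : g ∈ H := by
    refine (Subgroup.closure_le H).2 ?_ (R.gen (Subgroup.mem_top g))
    rintro x (hx | ⟨i, rfl⟩)
    exacts [hV hx, hn i]
  exact hgH m hm

/-- the module generated by an eigenvector -/
theorem smul_mem_lowSpan [Finite G] (a : MonoidAlgebra k G) {m : M} (hm : m ∈ R.lowSpan k v) :
    a • m ∈ R.lowSpan k v := by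
  induction a using MonoidAlgebra.induction_linear with
  | zero => rw [zero_smul]; exact zero_mem _
  | add a b ha hb => rw [add_smul]; exact add_mem ha hb
  | single g s =>
    rw [show single g s = s • single g (1 : k) by simp, smul_assoc]
    exact Submodule.smul_mem _ _ (R.lowSpan_stable hv g hm)

theorem lowSpan_eq_top [Finite G] [IsSimpleModule (MonoidAlgebra k G) M] (hv0 : v ≠ 0) :
    R.lowSpan k v = ⊤ := by
  let S : Submodule (MonoidAlgebra k G) M :=
    { carrier := R.lowSpan k v
      add_mem' := fun ha hb => add_mem ha hb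
      zero_mem' := zero_mem _
      smul_mem' := fun a m hm => R.smul_mem_lowSpan hv a hm }
  have hS : S = ⊤ := (eq_bot_or_eq_top S).resolve_left fun h => hv0
    ((Submodule.eq_bot_iff S).1 h v (R.self_mem_lowSpan v))
  rw [Submodule.eq_top_iff']
  exact fun m => (hS ▸ Submodule.mem_top : m ∈ S)

omit hv in
theorem exists_invariant [Finite G] [Nontrivial M] :
    ∃ ε : M →ₗ[k] k, ε ≠ 0 ∧ ∀ y ∈ R.V, ∀ m, ε (op (k := k) y m) = ε m := by
  let ρ : ↥R.V →* Module.End k M :=
    { toFun := fun y => op (k := k) (y : G)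
      map_one' := LinearMap.ext fun m => op_one m
      map_mul' := fun a b => LinearMap.ext fun m => op_mul (a : G) b m }
  obtain ⟨ε, h0, h⟩ := exists_invariant_functional (k := k) R.hV ρ
  exact ⟨ε, h0, fun y hy m => h ⟨y, hy⟩ m⟩

/-- an invariant functional is determined at the eigenvector -/
theorem eval_ne_zero (htop : R.lowSpan k v = ⊤) {ε : M →ₗ[k] k} (hε : ε ≠ 0)
    (hinv : ∀ y ∈ R.V, ∀ m, ε (op (k := k) y m) = ε m) : ε v ≠ 0 := by
  intro h0
  refine hε (LinearMap.ext fun m => ?_)
  have hm : m ∈ R.lowSpan k v := htop ▸ Submodule.mem_top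
  induction hm using Submodule.span_induction with
  | mem x hx => obtain ⟨y, rfl⟩ := hx; rw [hinv _ y.2, h0, LinearMap.zero_apply]
  | zero => simp
  | add x y _ _ hx hy => rw [map_add, hx, hy, map_add]
  | smul a x _ hx => rw [map_smul, hx, map_smul]

/-- the torus acts on an invariant functional by the weight -/
theorem eval_torus (htop : R.lowSpan k v = ⊤) {ε : M →ₗ[k] k}
    (hinv : ∀ y ∈ R.V, ∀ m, ε (op (k := k) y m) = ε m) (t : ↥R.T) (m : M) :
    ε (op (k := k) (t : G) m) = χ t * ε m := by
  have hm : m ∈ R.lowSpan k v := htop ▸ Submodule.mem_top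
  induction hm using Submodule.span_induction with
  | mem x hx =>
    obtain ⟨y, rfl⟩ := hx
    rw [← op_mul, show (t : G) * (y : G) = ((t : G) * (y : G) * (t : G)⁻¹) * (t : G) by group, op_mul,
      hv.1.2, map_smul, map_smul, hinv _ (R.T_V _ t.2 _ y.2), hinv _ y.2, smul_eq_mul]
  | zero => simp
  | add x y _ _ hx hy => rw [map_add, map_add, hx, hy, map_add, mul_add]
  | smul a x _ hx => rw [map_smul, map_smul, hx, map_smul, smul_eq_mul, smul_eq_mul, mul_left_comm]

/-- the eigenvalue is read off from the invariant functional -/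
theorem eval_ninv (i : ι) {ε : M →ₗ[k] k}
    (hinv : ∀ y ∈ R.V, ∀ m, ε (op (k := k) y m) = ε m) :
    c i * ε (op (k := k) (R.n i)⁻¹ v) = 0 := by
  have h1 := congrArg (fun m => ε (op (k := k) (R.n i)⁻¹ m)) (hv.2 i)
  simp only [map_smul, smul_eq_mul] at h1
  rw [← h1, Top_apply, map_sum, map_sum]
  have hterm : ∀ t : K, ε (op (k := k) (R.n i)⁻¹ (op (k := k) (R.φ i (upp t) * R.n i) v)) = ε v := by
    intro t
    rw [← op_mul, n, ← map_mul, upp_wey, map_mul, inv_mul_cancel_left, hinv _ (R.low_mem i _)]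
  rw [Finset.sum_congr rfl fun t _ => hterm t, Finset.sum_const, Finset.card_univ,
    ← Nat.cast_smul_eq_nsmul k, natCast_card (K := K) p, zero_smul]

/-- with eigenvalue zero and trivial weight `n⁻¹` fixes the invariant functional -/
theorem eval_ninv_eq (i : ι) (hci : c i = 0) (htriv : R.Triv χ i) (htop : R.lowSpan k v = ⊤)
    {ε : M →ₗ[k] k} (hinv : ∀ y ∈ R.V, ∀ m, ε (op (k := k) y m) = ε m) (m : M) :
    ε (op (k := k) (R.n i)⁻¹ m) = ε m := by
  classical
  have hlow : ∀ t : Kˣ, ε (op (k := k) (R.n i)⁻¹ (op (k := k) (R.φ i (low (t : K))) v)) = ε v := by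
    intro t
    rw [R.n_low hv.1 i t, map_smul, hinv _ (R.low_mem i _), htriv, one_smul]
  have hzero : ε (op (k := k) (R.n i)⁻¹ v) = ε v := by
    have h1 := congrArg (fun m => ε (op (k := k) (R.n i)⁻¹ (op (k := k) (R.n i)⁻¹ m))) (hv.2 i)
    simp only [hci, zero_smul, map_zero, Top_apply, map_sum] at h1
    have hterm : ∀ t : K, op (k := k) (R.n i)⁻¹ (op (k := k) (R.φ i (upp t) * R.n i) v) =
        op (k := k) (R.φ i (low (-t))) v := by
      intro t
      rw [← op_mul, n, ← map_mul, upp_wey, map_mul, inv_mul_cancel_left]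
    simp only [hterm] at h1
    rw [← Finset.sum_erase_add _ _ (Finset.mem_univ (0 : K)), neg_zero, low_zero, map_one, op_one] at h1
    have h2 : ∀ t ∈ Finset.univ.erase (0 : K),
        ε (op (k := k) (R.n i)⁻¹ (op (k := k) (R.φ i (low (-t))) v)) = ε v := by
      intro t ht
      have := hlow (-Units.mk0 t (Finset.ne_of_mem_erase ht))
      simpa using this
    rw [Finset.sum_congr rfl h2, Finset.sum_const, Finset.card_erase_of_mem (Finset.mem_univ _),
      Finset.card_univ, ← Nat.cast_smul_eq_nsmul k, Nat.cast_sub Fintype.card_pos,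
      natCast_card (K := K) p, Nat.cast_one, zero_sub, neg_smul, one_smul] at h1
    linear_combination h1
  have hm : m ∈ R.lowSpan k v := htop ▸ Submodule.mem_top
  induction hm using Submodule.span_induction with
  | mem x hx =>
    obtain ⟨⟨y, hy⟩, rfl⟩ := hx
    obtain ⟨e, he, t, rfl, hen⟩ := R.split i y hy
    show ε (op (k := k) (R.n i)⁻¹ (op (k := k) (e * R.φ i (low t)) v)) =
      ε (op (k := k) (e * R.φ i (low t)) v)
    have hmem : (R.n i)⁻¹ * e * R.n i ∈ R.V := by
      have h2 : R.n i * R.n i ∈ R.T := by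
        rw [n, ← map_mul, wey_sq]; exact R.dia_mem i _
      have h3 := R.T_V _ (inv_mem h2) _ hen
      rw [inv_inv] at h3
      rwa [show (R.n i)⁻¹ * e * R.n i =
        (R.n i * R.n i)⁻¹ * (R.n i * e * (R.n i)⁻¹) * (R.n i * R.n i) by group]
    rw [← op_mul, show (R.n i)⁻¹ * (e * R.φ i (low t)) =
      ((R.n i)⁻¹ * e * R.n i) * ((R.n i)⁻¹ * R.φ i (low t)) by group, op_mul, hinv _ hmem,
      hinv _ (mul_mem he (R.low_mem i t))]
    by_cases h0 : t = 0
    · rw [h0, low_zero, map_one, mul_one]; exact hzero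
    · obtain ⟨u, rfl⟩ : ∃ u : Kˣ, t = u := ⟨Units.mk0 t h0, rfl⟩
      rw [op_mul]; exact hlow u
  | zero => simp
  | add x y _ _ hx hy => rw [map_add, map_add, hx, hy, map_add]
  | smul a x _ hx => rw [map_smul, map_smul, hx, map_smul]

/-- two eigenvectors of a simple module have the same weight and eigenvalues -/
theorem params_unique [Finite G] [IsSimpleModule (MonoidAlgebra k G) M] (hv0 : v ≠ 0)
    {χ' : ↥R.T →* k} {c' : ι → k} {w : M} (hw : R.IsEig χ' c' w) (hw0 : w ≠ 0) :
    χ' = χ ∧ c' = c := by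
  classical
  haveI : Nontrivial M := ⟨⟨v, 0, hv0⟩⟩
  obtain ⟨ε, hε, hinv⟩ := R.exists_invariant (k := k) (M := M)
  have tv := R.lowSpan_eq_top hv hv0
  have tw := R.lowSpan_eq_top hw hw0
  have ev := R.eval_ne_zero hv tv hε hinv
  have ew := R.eval_ne_zero hw tw hε hinv
  have hχ : χ' = χ := by
    ext t
    have h1 := R.eval_torus hw tw hinv t v
    rw [hv.1.2, map_smul, smul_eq_mul] at h1
    exact (mul_right_cancel₀ ev h1).symm
  refine ⟨hχ, funext fun i => ?_⟩
  subst hχ
  have hval : ∀ {u : M} {d : ι → k}, R.IsEig χ' d u → u ≠ 0 → ∀ j, d j = 0 ∨ (R.Triv χ' j ∧ d j = -1) := by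
    intro u d hu hu0 j
    have h := R.eigen_scalar hu.1 j (hu.2 j) hu0
    by_cases hd : d j = 0
    · exact Or.inl hd
    · have h2 := mul_right_cancel₀ hd h
      rw [R.hsum_eq] at h2
      split_ifs at h2 with ht
      · exact Or.inr ⟨ht, h2⟩
      · exact absurd h2 hd
  have key : ∀ {u u' : M} {d d' : ι → k}, R.IsEig χ' d u → u ≠ 0 → R.IsEig χ' d' u' → u' ≠ 0 →
      d i = 0 → R.Triv χ' i → d' i = 0 := by
    intro u u' d d' hu hu0 hu' hu'0 hd ht
    by_contra hd'
    have h1 := R.eval_ninv_eq hu i hd ht (R.lowSpan_eq_top hu hu0) hinv u'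
    have h2 := (mul_eq_zero.1 (R.eval_ninv hu' i hinv)).resolve_left hd'
    rw [h2] at h1
    exact R.eval_ne_zero hu' (R.lowSpan_eq_top hu' hu'0) hε hinv h1.symm
  rcases hval hw hw0 i with h | ⟨ht, h⟩ <;> rcases hval hv hv0 i with h' | ⟨ht', h'⟩
  · rw [h, h']
  · exact absurd (key hw hw0 hv hv0 h ht') (h'.symm ▸ neg_ne_zero.2 one_ne_zero)
  · exact absurd (key hv hv0 hw hw0 h' ht) (h.symm ▸ neg_ne_zero.2 one_ne_zero)
  · rw [h, h']

omit hv in
/-- simple modules with eigenvectors of the same parameters are isomorphic -/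
theorem nonempty_equiv [Finite G] {N : Type*} [AddCommGroup N] [Module k N]
    [Module (MonoidAlgebra k G) N] [IsScalarTower k (MonoidAlgebra k G) N]
    [IsSimpleModule (MonoidAlgebra k G) M] [IsSimpleModule (MonoidAlgebra k G) N]
    {w : N} (hv : R.IsEig χ c v) (hv0 : v ≠ 0) (hw : R.IsEig χ c w) (hw0 : w ≠ 0) :
    Nonempty (M ≃ₗ[MonoidAlgebra k G] N) := by
  classical
  have hop : ∀ (g : G) (m : M) (x : N), op (k := k) g (m, x) = (op (k := k) g m, op (k := k) g x) :=
    fun g m x => rfl
  have hvw : R.IsEig χ c ((v, w) : M × N) := by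
    refine ⟨⟨fun u hu => by rw [hop, hv.1.1 u hu, hw.1.1 u hu],
      fun t => by rw [hop, hv.1.2, hw.1.2, Prod.smul_mk]⟩, fun i => ?_⟩
    have e := (hv.2 i)
    have e' := (hw.2 i)
    rw [Top_apply] at e e' ⊢
    simp only [hop, ← prod_mk_sum, e, e', Prod.smul_mk]
  let S : Submodule (MonoidAlgebra k G) (M × N) :=
    { carrier := R.lowSpan k ((v, w) : M × N)
      add_mem' := fun ha hb => add_mem ha hb
      zero_mem' := zero_mem _
      smul_mem' := fun a m hm => R.smul_mem_lowSpan hvw a hm }
  haveI : Nontrivial M := ⟨⟨v, 0, hv0⟩⟩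
  haveI : Nontrivial N := ⟨⟨w, 0, hw0⟩⟩
  -- the submodule is not everything
  have hS : S ≠ ⊤ := by
    intro htop
    obtain ⟨α, hα, hαi⟩ := R.exists_invariant (k := k) (M := M)
    obtain ⟨β, hβ, hβi⟩ := R.exists_invariant (k := k) (M := N)
    have hav := R.eval_ne_zero hv (R.lowSpan_eq_top hv hv0) hα hαi
    have hbw := R.eval_ne_zero hw (R.lowSpan_eq_top hw hw0) hβ hβi
    have hzero : ∀ x ∈ S, β w * α x.1 = α v * β x.2 := by
      intro x hx
      change x ∈ R.lowSpan k ((v, w) : M × N) at hx
      induction hx using Submodule.span_induction with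
      | mem x hx =>
        obtain ⟨y, rfl⟩ := hx
        show β w * α (op (k := k) (y : G) v) = α v * β (op (k := k) (y : G) w)
        rw [hαi _ y.2, hβi _ y.2, mul_comm]
      | zero => simp
      | add x y _ _ hx hy =>
        simp only [Prod.fst_add, Prod.snd_add, map_add, mul_add, hx, hy]
      | smul a x _ hx =>
        simp only [Prod.smul_fst, Prod.smul_snd, map_smul, smul_eq_mul]
        linear_combination a * hx
    have h := hzero (v, 0) (htop ▸ Submodule.mem_top)
    simp only [map_zero, mul_zero, mul_eq_zero] at h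
    rcases h with h | h
    exacts [hbw h, hav h]
  let f : S →ₗ[MonoidAlgebra k G] M := (LinearMap.fst _ M N).comp S.subtype
  let f' : S →ₗ[MonoidAlgebra k G] N := (LinearMap.snd _ M N).comp S.subtype
  have hmem : ((v, w) : M × N) ∈ S := R.self_mem_lowSpan _
  have hsurj : Function.Surjective f := LinearMap.surjective_of_ne_zero fun h =>
    hv0 (LinearMap.congr_fun h ⟨_, hmem⟩)
  have hsurj' : Function.Surjective f' := LinearMap.surjective_of_ne_zero fun h =>
    hw0 (LinearMap.congr_fun h ⟨_, hmem⟩)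
  have hinj : ∀ x : N, ((0 : M), x) ∈ S → x = 0 := by
    intro x hx
    by_contra hx0
    refine hS (Submodule.eq_top_iff'.2 fun ⟨m, n⟩ => ?_)
    let T : Submodule (MonoidAlgebra k G) N := S.comap (LinearMap.inr _ M N)
    have hT : T = ⊤ := (eq_bot_or_eq_top T).resolve_left fun h => hx0
      ((Submodule.eq_bot_iff T).1 h x hx)
    obtain ⟨⟨⟨m', n'⟩, hy⟩, rfl⟩ := hsurj m
    have h1 : n - n' ∈ T := hT ▸ Submodule.mem_top
    have h2 := add_mem hy (show ((0 : M), n - n') ∈ S from h1)
    show (m', n) ∈ S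
    rwa [Prod.mk_add_mk, add_zero, add_sub_cancel] at h2
  have hinj' : ∀ x : M, (x, (0 : N)) ∈ S → x = 0 := by
    intro x hx
    by_contra hx0
    refine hS (Submodule.eq_top_iff'.2 fun ⟨m, n⟩ => ?_)
    let T : Submodule (MonoidAlgebra k G) M := S.comap (LinearMap.inl _ M N)
    have hT : T = ⊤ := (eq_bot_or_eq_top T).resolve_left fun h => hx0
      ((Submodule.eq_bot_iff T).1 h x hx)
    obtain ⟨⟨⟨m', n'⟩, hy⟩, rfl⟩ := hsurj' n
    have h1 : m - m' ∈ T := hT ▸ Submodule.mem_top
    have h2 := add_mem hy (show (m - m', (0 : N)) ∈ S from h1)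
    show (m, n') ∈ S
    rwa [Prod.mk_add_mk, add_zero, add_sub_cancel] at h2
  have hbij : Function.Bijective f := by
    refine ⟨(injective_iff_map_eq_zero f).2 ?_, hsurj⟩
    rintro ⟨⟨m, n⟩, hx⟩ (rfl : m = 0)
    exact Subtype.ext (Prod.ext rfl (hinj n hx))
  have hbij' : Function.Bijective f' := by
    refine ⟨(injective_iff_map_eq_zero f').2 ?_, hsurj'⟩
    rintro ⟨⟨m, n⟩, hx⟩ (rfl : n = 0)
    exact Subtype.ext (Prod.ext (hinj' m hx) rfl)
  exact ⟨(LinearEquiv.ofBijective f hbij).symm.trans (LinearEquiv.ofBijective f' hbij')⟩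

end RankOne

end CfsgLib.Rep.CurtisRichen
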