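import Mathlib

/-!
# Rank one subgroups and their operators on modules in the defining characteristic

A finite group with subgroups `U`, `V`, `T` and homomorphisms of `SL₂` is considered; on modules in
the characteristic of the field of the rank one subgroups each of them gives an operator.
-/

set_option autoImplicit false

open MonoidAlgebra

namespace CfsgLib.Rep.CurtisRichen

section SLTwo

variable {K : Type*} [Field K]

/-- upper unitriangular -/
def upp (t : K) : Matrix.SpecialLinearGroup (Fin 2) K :=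
  ⟨!![1, t; 0, 1], by simp [Matrix.det_fin_two_of]⟩

/-- lower unitriangular -/
def low (t : K) : Matrix.SpecialLinearGroup (Fin 2) K :=
  ⟨!![1, 0; t, 1], by simp [Matrix.det_fin_two_of]⟩

/-- diagonal -/
def dia (a : Kˣ) : Matrix.SpecialLinearGroup (Fin 2) K :=
  ⟨!![(a : K), 0; 0, (a⁻¹ : Kˣ)], by simp [Matrix.det_fin_two_of]⟩

/-- the Weyl element -/
def wey : Matrix.SpecialLinearGroup (Fin 2) K :=
  ⟨!![0, 1; -1, 0], by simp [Matrix.det_fin_two_of]⟩

theorem upp_add (s t : K) : upp (s + t) = upp s * upp t := by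
  apply Matrix.SpecialLinearGroup.ext
  intro i j
  try simp only [Matrix.SpecialLinearGroup.coe_mul]
  fin_cases i <;> fin_cases j <;>
    simp [upp, low, dia, wey, Matrix.mul_apply, Fin.sum_univ_two, mul_comm, add_comm]

theorem upp_zero : upp (0 : K) = 1 := by
  apply Matrix.SpecialLinearGroup.ext
  intro i j
  try simp only [Matrix.SpecialLinearGroup.coe_mul]
  fin_cases i <;> fin_cases j <;>
    simp [upp, low, dia, wey, Matrix.mul_apply, Fin.sum_univ_two, mul_comm, add_comm]

theorem low_zero : low (0 : K) = 1 := by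
  apply Matrix.SpecialLinearGroup.ext
  intro i j
  try simp only [Matrix.SpecialLinearGroup.coe_mul]
  fin_cases i <;> fin_cases j <;>
    simp [upp, low, dia, wey, Matrix.mul_apply, Fin.sum_univ_two, mul_comm, add_comm]

theorem dia_mul (a b : Kˣ) : dia (a * b) = dia a * dia b := by
  apply Matrix.SpecialLinearGroup.ext
  intro i j
  try simp only [Matrix.SpecialLinearGroup.coe_mul]
  fin_cases i <;> fin_cases j <;>
    simp [upp, low, dia, wey, Matrix.mul_apply, Fin.sum_univ_two, mul_comm, add_comm]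

theorem dia_one : dia (1 : Kˣ) = 1 := by
  apply Matrix.SpecialLinearGroup.ext
  intro i j
  try simp only [Matrix.SpecialLinearGroup.coe_mul]
  fin_cases i <;> fin_cases j <;>
    simp [upp, low, dia, wey, Matrix.mul_apply, Fin.sum_univ_two, mul_comm, add_comm]

theorem wey_sq : (wey : Matrix.SpecialLinearGroup (Fin 2) K) * wey = dia (-1) := by
  apply Matrix.SpecialLinearGroup.ext
  intro i j
  try simp only [Matrix.SpecialLinearGroup.coe_mul]
  fin_cases i <;> fin_cases j <;>
    simp [upp, low, dia, wey, Matrix.mul_apply, Fin.sum_univ_two, mul_comm, add_comm]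

theorem wey_upp (t : K) : wey * upp t = low (-t) * wey := by
  apply Matrix.SpecialLinearGroup.ext
  intro i j
  try simp only [Matrix.SpecialLinearGroup.coe_mul]
  fin_cases i <;> fin_cases j <;>
    simp [upp, low, dia, wey, Matrix.mul_apply, Fin.sum_univ_two, mul_comm, add_comm]

theorem upp_wey (t : K) : upp t * wey = wey * low (-t) := by
  apply Matrix.SpecialLinearGroup.ext
  intro i j
  try simp only [Matrix.SpecialLinearGroup.coe_mul]
  fin_cases i <;> fin_cases j <;>
    simp [upp, low, dia, wey, Matrix.mul_apply, Fin.sum_univ_two, mul_comm, add_comm]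

theorem dia_wey (a : Kˣ) : dia a * wey = wey * dia a⁻¹ := by
  apply Matrix.SpecialLinearGroup.ext
  intro i j
  try simp only [Matrix.SpecialLinearGroup.coe_mul]
  fin_cases i <;> fin_cases j <;>
    simp [upp, low, dia, wey, Matrix.mul_apply, Fin.sum_univ_two, mul_comm, add_comm]

theorem wey_upp_wey (s : Kˣ) :
    wey * upp (s : K) * wey = upp (-(s⁻¹ : Kˣ) : K) * dia (-s⁻¹) * wey * upp (-(s⁻¹ : Kˣ) : K) := by
  apply Matrix.SpecialLinearGroup.ext
  intro i j
  try simp only [Matrix.SpecialLinearGroup.coe_mul]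
  fin_cases i <;> fin_cases j <;>
    simp [upp, low, dia, wey, Matrix.mul_apply, Fin.sum_univ_two, mul_comm, add_comm]

theorem low_eq (t : Kˣ) :
    low (t : K) = upp ((t⁻¹ : Kˣ) : K) * dia (-t⁻¹) * wey * upp ((t⁻¹ : Kˣ) : K) := by
  apply Matrix.SpecialLinearGroup.ext
  intro i j
  try simp only [Matrix.SpecialLinearGroup.coe_mul]
  fin_cases i <;> fin_cases j <;>
    simp [upp, low, dia, wey, Matrix.mul_apply, Fin.sum_univ_two, mul_comm, add_comm]

end SLTwo

/-- the data of the rank one subgroups -/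
structure RankOne (p : ℕ) (G : Type*) [Group G] (K : Type*) [Field K] (ι : Type*) where
  /-- positive unipotent subgroup -/
  U : Subgroup G
  /-- negative unipotent subgroup -/
  V : Subgroup G
  /-- torus -/
  T : Subgroup G
  /-- rank one subgroups -/
  φ : ι → Matrix.SpecialLinearGroup (Fin 2) K →* G
  hU : IsPGroup p U
  hV : IsPGroup p V
  upp_mem : ∀ i t, φ i (upp t) ∈ U
  low_mem : ∀ i t, φ i (low t) ∈ V
  dia_mem : ∀ i a, φ i (dia a) ∈ T
  T_comm : ∀ s ∈ T, ∀ t ∈ T, s * t = t * s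
  T_U : ∀ t ∈ T, ∀ u ∈ U, t * u * t⁻¹ ∈ U
  T_V : ∀ t ∈ T, ∀ y ∈ V, t * y * t⁻¹ ∈ V
  n_T : ∀ i, ∀ t ∈ T, φ i wey * t * (φ i wey)⁻¹ ∈ T
  split : ∀ i, ∀ y ∈ V, ∃ e ∈ V, ∃ t : K, y = e * φ i (low t) ∧ φ i wey * e * (φ i wey)⁻¹ ∈ V
  gen : ⊤ ≤ Subgroup.closure ((V : Set G) ∪ Set.range fun i => φ i wey)

namespace RankOne

variable {p : ℕ} {G : Type*} [Group G] {K : Type*} [Field K] {ι : Type*} (R : RankOne p G K ι)

/-- the Weyl element of a rank one subgroup -/
def n (i : ι) : G := R.φ i wey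

/-- the torus of a rank one subgroup -/
def h (i : ι) : Kˣ →* ↥R.T where
  toFun a := ⟨R.φ i (dia a), R.dia_mem i a⟩
  map_one' := Subtype.ext (by
    show R.φ i (dia (1 : Kˣ)) = 1
    rw [dia_one, map_one])
  map_mul' a b := Subtype.ext (by
    show R.φ i (dia (a * b)) = R.φ i (dia a) * R.φ i (dia b)
    rw [dia_mul, map_mul])

theorem n_inv_conj_T (i : ι) {t : G} (ht : t ∈ R.T) : (R.n i)⁻¹ * t * R.n i ∈ R.T := by
  have h2 : R.n i * R.n i ∈ R.T := by
    rw [n, ← map_mul, wey_sq]; exact R.dia_mem i _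
  have h1 := R.n_T i _ ht
  rw [show (R.n i)⁻¹ * t * R.n i = (R.n i * R.n i)⁻¹ * (R.n i * t * (R.n i)⁻¹) * (R.n i * R.n i) by group]
  exact mul_mem (mul_mem (inv_mem h2) h1) h2

variable {k : Type*} [Field k] {M : Type*} [AddCommGroup M] [Module k M]
  [Module (MonoidAlgebra k G) M] [IsScalarTower k (MonoidAlgebra k G) M]

/-- the action of a group element -/
noncomputable def op (g : G) : M →ₗ[k] M := Algebra.lsmul k k M (single g (1 : k))

theorem op_apply (g : G) (m : M) : (op (k := k) g) m = single g (1 : k) • m := rfl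

theorem op_mul (g g' : G) (m : M) : op (k := k) (g * g') m = op (k := k) g (op (k := k) g' m) := by
  rw [op_apply, op_apply, op_apply, ← mul_smul, MonoidAlgebra.single_mul_single, mul_one]

theorem op_one (m : M) : op (k := k) (1 : G) m = m := by
  rw [op_apply, ← MonoidAlgebra.one_def, one_smul]

/-- a vector fixed by `U` of weight `χ` -/
def IsWt (χ : ↥R.T →* k) (v : M) : Prop :=
  (∀ u ∈ R.U, op (k := k) u v = v) ∧ ∀ t : ↥R.T, op (k := k) (t : G) v = χ t • v

variable [Fintype K] [DecidableEq K]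

/-- the operator of a rank one subgroup -/
noncomputable def Top (i : ι) : M →ₗ[k] M := ∑ t : K, op (k := k) (R.φ i (upp t) * R.n i)

theorem Top_apply (i : ι) (m : M) :
    R.Top (k := k) i m = ∑ t : K, op (k := k) (R.φ i (upp t) * R.n i) m := by
  rw [Top, LinearMap.sum_apply]

/-- the sum of the character over the torus of a rank one subgroup -/
noncomputable def hsum (χ : ↥R.T →* k) (i : ι) : k := ∑ a : Kˣ, χ (R.h i a)

/-- the rank one subgroups whose torus is killed -/
def Triv (χ : ↥R.T →* k) (i : ι) : Prop := ∀ a : Kˣ, χ (R.h i a) = 1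

omit [DecidableEq K] in
theorem natCast_card (p : ℕ) [CharP K p] [CharP k p] [Fact p.Prime] : (Fintype.card K : k) = 0 := by
  obtain ⟨m, -, hm⟩ := FiniteField.card K p
  rw [hm, Nat.cast_pow, CharP.cast_eq_zero, zero_pow m.pos.ne']

variable [CharP K p] [CharP k p] [Fact p.Prime]

theorem hsum_eq (χ : ↥R.T →* k) (i : ι) [Decidable (R.Triv χ i)] :
    R.hsum χ i = if R.Triv χ i then -1 else 0 := by
  classical
  rw [hsum]
  split_ifs with h
  · rw [Finset.sum_congr rfl fun a _ => h a, Finset.sum_const, Finset.card_univ, Fintype.card_units,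
      nsmul_one, Nat.cast_sub Fintype.card_pos, natCast_card (K := K) p, Nat.cast_one, zero_sub]
  · refine (sum_hom_units (χ.comp (R.h i))).trans ?_
    rw [if_neg fun h' => h fun a => DFunLike.congr_fun h' a, Nat.cast_zero]

variable {χ : ↥R.T →* k} {v : M} (hv : R.IsWt χ v)

include hv

theorem op_dia (i : ι) (a : Kˣ) : op (k := k) (R.φ i (dia a)) v = χ (R.h i a) • v := hv.2 (R.h i a)

theorem op_upp (i : ι) (t : K) : op (k := k) (R.φ i (upp t)) v = v := hv.1 _ (R.upp_mem i t)

/-- the operator squared on a weight vector -/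
theorem Top_Top (i : ι) : R.Top (k := k) i (R.Top (k := k) i v) = R.hsum χ i • R.Top (k := k) i v := by
  classical
  rw [Top_apply, Top_apply]
  simp only [map_sum, ← op_mul]
  rw [Finset.sum_comm, ← Finset.sum_erase_add _ _ (Finset.mem_univ (0 : K))]
  have h0 : ∑ t : K, op (k := k) (R.φ i (upp t) * R.n i * (R.φ i (upp 0) * R.n i)) v = 0 := by
    have : ∀ t : K, op (k := k) (R.φ i (upp t) * R.n i * (R.φ i (upp 0) * R.n i)) v =
        χ (R.h i (-1)) • v := by
      intro t
      rw [upp_zero, map_one, one_mul, mul_assoc, n, ← map_mul, wey_sq, op_mul, R.op_dia hv,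
        map_smul, R.op_upp hv]
    rw [Finset.sum_congr rfl fun t _ => this t, Finset.sum_const, Finset.card_univ,
      ← Nat.cast_smul_eq_nsmul k, natCast_card (K := K) p, zero_smul]
  rw [h0, add_zero, hsum, Finset.sum_smul]
  refine Finset.sum_bij' (fun s hs => (-Units.mk0 s (Finset.ne_of_mem_erase hs) : Kˣ))
    (fun a _ => ((-a : Kˣ) : K)) (fun s _ => Finset.mem_univ _)
    (fun a _ => Finset.mem_erase.2 ⟨(-a).ne_zero, Finset.mem_univ _⟩)
    (fun s hs => by simp) (fun a _ => Units.ext (by simp)) fun s hs => ?_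
  obtain ⟨u, rfl⟩ : ∃ u : Kˣ, s = u := ⟨Units.mk0 s (Finset.ne_of_mem_erase hs), rfl⟩
  rw [show (-Units.mk0 (u : K) (Finset.ne_of_mem_erase hs) : Kˣ) = -u from Units.ext rfl,
    Finset.smul_sum]
  refine Fintype.sum_equiv (Equiv.addRight (-(u⁻¹ : Kˣ) : K)) _ _ fun t => ?_
  rw [Equiv.coe_addRight]
  have e : R.φ i (upp t) * R.n i * (R.φ i (upp (u : K)) * R.n i) =
      R.φ i (upp (t + -(u⁻¹ : Kˣ))) * R.n i * (R.φ i (dia (-u)) * R.φ i (upp (-(u⁻¹ : Kˣ) : K))) := by
    simp only [n, ← map_mul]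
    congr 1
    rw [show upp t * wey * (upp (u : K) * wey) = upp t * (wey * upp (u : K) * wey) by
        simp only [mul_assoc], wey_upp_wey, upp_add]
    simp only [mul_assoc]
    rw [← mul_assoc (dia (-u⁻¹)) wey, dia_wey, show (-u⁻¹ : Kˣ)⁻¹ = -u by rw [inv_neg, inv_inv]]
    simp only [mul_assoc]
  rw [e, op_mul, op_mul _ _ v, R.op_upp hv, R.op_dia hv, map_smul]

theorem eigen_scalar (i : ι) {c : k} (hc : R.Top (k := k) i v = c • v) (hv0 : v ≠ 0) : c * c = R.hsum χ i * c := by
  have h := R.Top_Top hv i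
  rw [hc, map_smul, hc, smul_smul, smul_smul] at h
  exact smul_left_injective k hv0 h

/-- an eigenvector is moved by `n⁻¹` into the span of its lower translates -/
theorem ninv_mem_span (i : ι) {c : k} (hc : R.Top (k := k) i v = c • v) :
    op (k := k) (R.n i)⁻¹ v ∈ Submodule.span k (Set.range fun t : K => op (k := k) (R.φ i (low t)) v) := by
  classical
  by_cases h0 : c = 0
  · have h1 := congrArg (op (k := k) (R.n i)⁻¹) hc
    rw [h0, zero_smul, map_zero, Top_apply, map_sum] at h1
    have h2 : ∀ t : K, op (k := k) (R.n i)⁻¹ (op (k := k) (R.φ i (upp t) * R.n i) v) =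
        op (k := k) (R.φ i (low (-t))) v := by
      intro t
      rw [← op_mul, n, ← map_mul, upp_wey, map_mul, inv_mul_cancel_left]
    rw [Finset.sum_congr rfl fun t _ => h2 t,
      show (∑ t : K, op (k := k) (R.φ i (low (-t))) v) = ∑ t : K, op (k := k) (R.φ i (low t)) v from
        Fintype.sum_equiv (Equiv.neg K) _ _ fun t => rfl,
      ← Finset.add_sum_erase _ _ (Finset.mem_univ (0 : K)), low_zero, map_one, op_one] at h1
    have h3 := congrArg (op (k := k) (R.n i)⁻¹) h1
    rw [map_add, map_zero, map_sum, add_eq_zero_iff_eq_neg] at h3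
    rw [h3]
    refine Submodule.neg_mem _ (Submodule.sum_mem _ fun t ht => ?_)
    obtain ⟨u, rfl⟩ : ∃ u : Kˣ, t = u := ⟨Units.mk0 t (Finset.ne_of_mem_erase ht), rfl⟩
    have e : (R.n i)⁻¹ * R.φ i (low (u : K)) =
        R.φ i (low (-(u⁻¹ : Kˣ) : K)) * (R.φ i (dia (-u)) * R.φ i (upp ((u⁻¹ : Kˣ) : K))) := by
      rw [inv_mul_eq_iff_eq_mul]
      simp only [n, ← map_mul]
      congr 1
      rw [low_eq, mul_assoc, mul_assoc (upp _) (dia _), ← mul_assoc (dia _) wey, dia_wey,
        show (-u⁻¹ : Kˣ)⁻¹ = -u by rw [inv_neg, inv_inv], ← mul_assoc wey (low _), ← upp_wey]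
      simp only [mul_assoc]
    rw [← op_mul, e, op_mul, op_mul, R.op_upp hv, R.op_dia hv, map_smul]
    exact Submodule.smul_mem _ _ (Submodule.subset_span ⟨_, rfl⟩)
  · have h1 := congrArg (op (k := k) (R.n i)⁻¹) hc
    rw [map_smul] at h1
    rw [show op (k := k) (R.n i)⁻¹ v = c⁻¹ • op (k := k) (R.n i)⁻¹ (R.Top (k := k) i v) by
      rw [h1, smul_smul, inv_mul_cancel₀ h0, one_smul]]
    refine Submodule.smul_mem _ _ ?_
    rw [Top_apply, map_sum]
    refine Submodule.sum_mem _ fun t _ => Submodule.subset_span ⟨-t, ?_⟩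
    show _ = op (k := k) (R.n i)⁻¹ _
    rw [← op_mul, n, ← map_mul, upp_wey, map_mul, inv_mul_cancel_left]

theorem n_low (i : ι) (t : Kˣ) :
    op (k := k) ((R.n i)⁻¹) (op (k := k) (R.φ i (low (t : K))) v) =
      χ (R.h i (-t)) • op (k := k) (R.φ i (low (-(t⁻¹ : Kˣ) : K))) v := by
  have e : (R.n i)⁻¹ * R.φ i (low (t : K)) =
      R.φ i (low (-(t⁻¹ : Kˣ) : K)) * (R.φ i (dia (-t)) * R.φ i (upp ((t⁻¹ : Kˣ) : K))) := by
    rw [inv_mul_eq_iff_eq_mul]
    simp only [n, ← map_mul]
    congr 1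
    rw [low_eq, mul_assoc, mul_assoc (upp _) (dia _), ← mul_assoc (dia _) wey, dia_wey,
      show (-t⁻¹ : Kˣ)⁻¹ = -t by rw [inv_neg, inv_inv], ← mul_assoc wey (low _), ← upp_wey]
    simp only [mul_assoc]
  rw [← op_mul, e, op_mul, op_mul, R.op_upp hv, R.op_dia hv, map_smul]

end RankOne

end CfsgLib.Rep.CurtisRichen
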